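import Cfsg.Agent.Chev.ReeToral
import Cfsg.Agent.Chev.ReeMultThree
import Cfsg.Agent.Chev.ReeOut
import Cfsg.Agent.ThreeCC.Local

/-!
Centralisers in the small Ree group and involutions inverting the centraliser of an element of
order prime to three.
-/

set_option autoImplicit false
set_option linter.style.haveILetI false
set_option linter.unusedSectionVars false

namespace CfsgLib.ReeSquare

open CfsgLib.Chev.G2Tw
open CfsgLib.Chev.G2Tw.Ctx (qq NN qq_ge separated)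
open Cfsg.Lie
open CfsgLib.Linear.SmallSub (P2)

theorem card_centralizer_conj {G : Type*} [Group G] (y g : G) :
    Nat.card (Subgroup.centralizer ({y * g * y⁻¹} : Set G)) =
      Nat.card (Subgroup.centralizer ({g} : Set G)) := by
  refine (Nat.card_congr (Equiv.subtypeEquiv (MulAut.conj y).toEquiv fun c => ?_)).symm
  show c ∈ Subgroup.centralizer ({g} : Set G) ↔
    MulAut.conj y c ∈ Subgroup.centralizer ({y * g * y⁻¹} : Set G)
  rw [Subgroup.mem_centralizer_singleton_iff, Subgroup.mem_centralizer_singleton_iff,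
    ← MulAut.conj_apply y g, ← map_mul, ← map_mul, (MulAut.conj y).injective.eq_iff]

/-- An involution inverts the centraliser of `x`. -/
def HasInverter {G : Type*} [Group G] (x : G) : Prop :=
  ∃ i : G, i * i = 1 ∧ i ≠ 1 ∧ ∀ c : G, c * x = x * c → i * c * i⁻¹ = c⁻¹

theorem HasInverter.conj {G : Type*} [Group G] {x : G} (y : G) (h : HasInverter (y * x * y⁻¹)) :
    HasInverter x := by
  obtain ⟨i, h1, h2, h3⟩ := h
  refine ⟨y⁻¹ * i * y, ?_, fun e => h2 ?_, fun c hc => ?_⟩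
  · rw [show y⁻¹ * i * y * (y⁻¹ * i * y) = y⁻¹ * (i * i) * y by group, h1, mul_one, inv_mul_cancel]
  · calc i = y * (y⁻¹ * i * y) * y⁻¹ := by group
      _ = 1 := by rw [e, mul_one, mul_inv_cancel]
  · have := h3 (y * c * y⁻¹) (by
      rw [show y * c * y⁻¹ * (y * x * y⁻¹) = y * (c * x) * y⁻¹ by group, hc]; group)
    calc y⁻¹ * i * y * c * (y⁻¹ * i * y)⁻¹ = y⁻¹ * (i * (y * c * y⁻¹) * i⁻¹) * y := by group
      _ = c⁻¹ := by rw [this]; group

theorem HasInverter.real {G : Type*} [Group G] {x : G} (h : HasInverter x) : IsConj x x⁻¹ := by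
  obtain ⟨i, -, -, h3⟩ := h
  exact isConj_iff.2 ⟨i, h3 x rfl⟩

variable {K : Type*} [Field K] [Fintype K] {m : ℕ} (C : Ctx K m)
include C

/-- The number `3 ^ (m + 1)`, the square root of `3 q`. -/
abbrev rr (m : ℕ) : ℕ := 3 ^ (m + 1)

theorem arith_r (hm : 1 ≤ m) : rr m ^ 2 = 3 * qq m ∧ rr m < qq m ∧ 9 ≤ rr m := by
  refine ⟨?_, Nat.pow_lt_pow_right (by norm_num) (by omega), ?_⟩
  · rw [← pow_mul, ← pow_succ']
    congr 1
    ring
  · calc 9 = 3 ^ 2 := by norm_num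
      _ ≤ 3 ^ (m + 1) := Nat.pow_le_pow_right (by norm_num) (by omega)

theorem pow_four_ne_one {g : RG K m} (h2 : 2 < orderOf g) (h3 : ¬ 3 ∣ orderOf g) : g ^ 4 ≠ 1 := by
  intro e
  have hd := orderOf_dvd_of_pow_eq_one e
  have := Nat.le_of_dvd (by norm_num) hd
  have h4 := C.no_orderOf_four g
  have : orderOf g = 3 := by omega
  exact h3 (by rw [this])

/-- The elements of order prime to three and above two. -/
theorem semisimple_cases (hm : 1 ≤ m) {T₁ T₂ : Subgroup (RG K m)}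
    [Fintype (RG K m)] (h₁ : C.IsTor T₁ (qq m - rr m + 1)) (h₂ : C.IsTor T₂ (qq m + rr m + 1))
    (hor : ∀ g : RG K m, orderOf g ∣ NN m →
      orderOf g ∣ qq m - rr m + 1 ∨ orderOf g ∣ qq m + rr m + 1)
    {g : RG K m} (h2 : 2 < orderOf g) (h3 : ¬ 3 ∣ orderOf g) :
    ∃ y : RG K m,
      (∃ s : Kˣ, s ^ 2 ≠ 1 ∧ y * g * y⁻¹ = C.tG s) ∨
      (y * g * y⁻¹ ∈ C.WG ∧ (y * g * y⁻¹) ^ 4 ≠ 1) ∨
      y * g * y⁻¹ ∈ T₁ ∨ y * g * y⁻¹ ∈ T₂ := by
  have hg : g ≠ 1 := fun e => by rw [e, orderOf_one] at h2; omega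
  rcases C.order_cases hm hg with e | ⟨e, -⟩ | ⟨-, -, y, hy⟩ | ⟨-, -, y, hy⟩ | ⟨-, hN, -⟩
  · omega
  · exact absurd e h3
  · obtain ⟨s, hs⟩ := hy
    refine ⟨y, Or.inl ⟨s, fun e => ?_, hs.symm⟩⟩
    have ho : orderOf s = orderOf g := by rw [← C.orderOf_tG, hs, C.orderOf_conj]
    have := Nat.le_of_dvd (by norm_num) (orderOf_dvd_of_pow_eq_one e)
    omega
  · exact ⟨y, Or.inr (Or.inl ⟨hy, pow_four_ne_one C (by rwa [C.orderOf_conj])
      (by rwa [C.orderOf_conj])⟩)⟩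
  · rcases hor g hN with e | e
    · obtain ⟨y, hy⟩ := h₁.conj g hg e
      exact ⟨y, Or.inr (Or.inr (Or.inl hy))⟩
    · obtain ⟨y, hy⟩ := h₂.conj g hg e
      exact ⟨y, Or.inr (Or.inr (Or.inr hy))⟩

theorem centralizer_WG_elem (hm : 1 ≤ m) {g : RG K m} (hg : g ∈ C.WG) (h4 : g ^ 4 ≠ 1) :
    Subgroup.centralizer ({g} : Set (RG K m)) = C.WG := by
  refine le_antisymm (fun c hc => ?_) fun c hc =>
    Subgroup.mem_centralizer_singleton_iff.2 (C.WG_comm hc hg)
  rw [← C.centralizer_AG hm (C.WG_pow_four hg) h4, Subgroup.mem_centralizer_singleton_iff]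
  exact ((show Commute c g from Subgroup.mem_centralizer_singleton_iff.1 hc).pow_right 4).eq

theorem card_centralizer_semisimple (hm : 1 ≤ m) {T₁ T₂ : Subgroup (RG K m)}
    [Fintype (RG K m)] (h₁ : C.IsTor T₁ (qq m - rr m + 1)) (h₂ : C.IsTor T₂ (qq m + rr m + 1))
    (hor : ∀ g : RG K m, orderOf g ∣ NN m →
      orderOf g ∣ qq m - rr m + 1 ∨ orderOf g ∣ qq m + rr m + 1)
    {g : RG K m} (h2 : 2 < orderOf g) (h3 : ¬ 3 ∣ orderOf g) :
    Nat.card (Subgroup.centralizer ({g} : Set (RG K m))) ≤ qq m + 1 ∨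
      ∃ y : RG K m, y * g * y⁻¹ ∈ T₂ ∧
        Nat.card (Subgroup.centralizer ({g} : Set (RG K m))) = qq m + rr m + 1 := by
  obtain ⟨-, hr, -⟩ := arith_r C hm
  have hg : ∀ y : RG K m, y * g * y⁻¹ ≠ 1 := fun y e => by
    rw [conj_eq_one_iff] at e
    rw [e, orderOf_one] at h2
    omega
  obtain ⟨y, ⟨s, hs, e⟩ | ⟨hy, h4⟩ | hy | hy⟩ := semisimple_cases C hm h₁ h₂ hor h2 h3
  · left
    rw [← card_centralizer_conj y, e, C.centralizer_tG hs, C.card_HG]
    show qq m - 1 ≤ qq m + 1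
    omega
  · left
    rw [← card_centralizer_conj y, centralizer_WG_elem C hm hy h4, C.card_WG]
  · left
    rw [← card_centralizer_conj y, h₁.cent _ hy (hg y), h₁.card]
    omega
  · refine Or.inr ⟨y, hy, ?_⟩
    rw [← card_centralizer_conj y, h₂.cent _ hy (hg y), h₂.card]

theorem inverter_tG {s : Kˣ} (hs : s ^ 2 ≠ 1) : HasInverter (C.tG s) := by
  have hcent : ∀ c, c * C.tG s = C.tG s * c → c ∈ C.HG := fun c hc => by
    rw [← C.centralizer_tG hs]
    exact Subgroup.mem_centralizer_singleton_iff.2 hc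
  obtain ⟨t, ht⟩ := hcent (C.nG * C.nG) (by
    calc C.nG * C.nG * C.tG s = C.nG * (C.tG s⁻¹ * C.nG) := by rw [mul_assoc, C.nG_tG]
      _ = C.nG * C.tG s⁻¹ * C.nG := by group
      _ = _ := by rw [C.nG_tG, inv_inv]; group)
  have h4 : C.nG ^ 4 = 1 := by
    have e := C.nG_conj t
    rw [ht] at e
    rw [show C.nG * (C.nG * C.nG) * C.nG⁻¹ = C.nG * C.nG by group] at e
    rw [show C.nG ^ 4 = C.nG * C.nG * (C.nG * C.nG) by simp only [pow_succ, pow_zero, one_mul, mul_assoc]]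
    nth_rw 1 [e]
    rw [← ht, map_inv, inv_mul_cancel]
  have h1 : C.nG ≠ 1 := fun e => C.nG_not_mem (e ▸ one_mem _)
  have h2 : C.nG * C.nG = 1 := by
    have hd := orderOf_dvd_of_pow_eq_one h4
    have := Nat.le_of_dvd (by norm_num) hd
    have := C.no_orderOf_four C.nG
    have := mt orderOf_eq_one_iff.1 h1
    have h3 : orderOf C.nG ≠ 3 := fun e => by rw [e] at hd; norm_num at hd
    have := orderOf_pos C.nG
    have ho : orderOf C.nG = 2 := by omega
    rw [← pow_two, ← ho, pow_orderOf_eq_one]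
  refine ⟨C.nG, h2, h1, fun c hc => ?_⟩
  obtain ⟨t', rfl⟩ := hcent c hc
  rw [C.nG_conj, map_inv]

theorem exists_Ut_inverter : ∃ c : P2 K, c ∉ C.Ut ∧ c ^ 4 = 1 ∧ ∀ z ∈ C.Ut, c * z * c⁻¹ = z⁻¹ := by
  obtain ⟨hx2, hx1, hxU, hcyc, ⟨hcard, hN, -⟩, hcent⟩ := C.Ut_spec
  haveI := hcyc
  have h8 := C.qq_mod
  obtain ⟨c, hc, hcU⟩ : ∃ c ∈ Subgroup.normalizer (C.Ut : Set (P2 K)), c ∉ C.Ut := by
    by_contra! hall
    have := Subgroup.card_le_of_le (show Subgroup.normalizer (C.Ut : Set (P2 K)) ≤ C.Ut from hall)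
    omega
  have hconj : ∀ z ∈ C.Ut, c * z * c⁻¹ ∈ C.Ut := fun z hz =>
    (Subgroup.mem_normalizer_iff.1 hc z).1 hz
  -- the square of `c`
  have hc2 : c * c ∈ C.Ut := by
    set N := Subgroup.normalizer (C.Ut : Set (P2 K)) with hNdef
    have hidx : (C.Ut.subgroupOf N).index = 2 := by
      have h := (C.Ut.subgroupOf N).card_mul_index
      rw [Nat.card_congr (Subgroup.subgroupOfEquivOfLe (Subgroup.le_normalizer)).toEquiv, hcard,
        hN] at h
      exact Nat.eq_of_mul_eq_mul_left (show 0 < (qq m + 1) / 2 by omega) (by omega)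
    exact Subgroup.mul_self_mem_of_index_two hidx (⟨c, hc⟩ : N)
  -- the involution of the torus is unique
  have huniq : ∀ a ∈ C.Ut, a * a = 1 → a = 1 ∨ a = C.xU := by
    intro a ha h
    by_contra hne
    push Not at hne
    classical
    haveI := Fintype.ofFinite C.Ut
    have hle := IsCyclic.card_pow_eq_one_le (α := C.Ut) (n := 2) two_pos
    have hsub : ({1, ⟨C.xU, hxU⟩, ⟨a, ha⟩} : Finset C.Ut) ⊆
        Finset.univ.filter (fun b : C.Ut => b ^ 2 = 1) := by
      intro b hb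
      simp only [Finset.mem_insert, Finset.mem_singleton] at hb
      simp only [Finset.mem_filter, Finset.mem_univ, true_and]
      refine Subtype.ext ?_
      rw [SubgroupClass.coe_pow, pow_two, OneMemClass.coe_one]
      rcases hb with rfl | rfl | rfl
      · simp
      · exact hx2
      · exact h
    have h3 := (Finset.card_le_card hsub).trans hle
    rw [Finset.card_insert_of_notMem (by
        simp only [Finset.mem_insert, Finset.mem_singleton, not_or, Subtype.ext_iff,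
          OneMemClass.coe_one]
        exact ⟨Ne.symm hx1, Ne.symm hne.1⟩),
      Finset.card_pair (by simp only [ne_eq, Subtype.mk.injEq]; exact Ne.symm hne.2)] at h3
    omega
  have hφx : c * C.xU * c⁻¹ = C.xU :=
    (huniq _ (hconj _ hxU) (by
      rw [show c * C.xU * c⁻¹ * (c * C.xU * c⁻¹) = c * (C.xU * C.xU) * c⁻¹ by group, hx2]
      group)).resolve_left fun e => hx1 (conj_eq_one_iff.1 e)
  -- the norm of an element of the torus
  have hnorm : ∀ z ∈ C.Ut, z * (c * z * c⁻¹) = 1 ∨ z * (c * z * c⁻¹) = C.xU := by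
    intro z hz
    by_contra hne
    push Not at hne
    have hy := mul_mem hz (hconj z hz)
    refine hcU ?_
    rw [← hcent _ hy hne.1 hne.2, Subgroup.mem_centralizer_singleton_iff, ← mul_inv_eq_iff_eq_mul]
    calc c * (z * (c * z * c⁻¹)) * c⁻¹ = c * z * c⁻¹ * (c * c * z * (c * c)⁻¹) := by group
      _ = c * z * c⁻¹ * z := by rw [C.Ut_comm hc2 hz, mul_inv_cancel_right]
      _ = _ := C.Ut_comm (hconj z hz) hz
  have hinv : ∀ z ∈ C.Ut, c * z * c⁻¹ = z⁻¹ := by
    intro z hz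
    rcases hnorm z hz with e | e
    · exact (inv_eq_of_mul_eq_one_right e).symm
    exfalso
    have hodd : Odd ((qq m + 1) / 4) := Nat.odd_iff.2 (by omega)
    have h1 : (z ^ ((qq m + 1) / 4)) * (c * z ^ ((qq m + 1) / 4) * c⁻¹) = C.xU := by
      rw [← conj_pow, ← Commute.mul_pow (C.Ut_comm hz (hconj z hz)), e]
      obtain ⟨j, hj⟩ := hodd
      rw [hj, pow_succ, pow_mul, pow_two, hx2, one_pow, one_mul]
    have h2 : z ^ ((qq m + 1) / 4) * z ^ ((qq m + 1) / 4) = 1 := by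
      rw [← pow_add, show (qq m + 1) / 4 + (qq m + 1) / 4 = (qq m + 1) / 2 by omega, ← hcard]
      exact congrArg Subtype.val (pow_card_eq_one' (x := (⟨z, hz⟩ : C.Ut)))
    rcases huniq _ (pow_mem hz _) h2 with e' | e'
    · rw [e', mul_one, mul_inv_cancel, one_mul] at h1
      exact hx1 h1.symm
    · rw [e', hφx, hx2] at h1
      exact hx1 h1.symm
  refine ⟨c, hcU, ?_, hinv⟩
  have e := hinv _ hc2
  rw [show c * (c * c) * c⁻¹ = c * c by group] at e
  rw [show c ^ 4 = c * c * (c * c) by simp only [pow_succ, pow_zero, one_mul, mul_assoc]]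
  nth_rw 1 [e]
  rw [inv_mul_cancel]

theorem inverter_WG (hm : 1 ≤ m) {x : RG K m} (hx : x ∈ C.WG) (h4 : x ^ 4 ≠ 1) :
    HasInverter x := by
  obtain ⟨c, hcU, hc4, hinv⟩ := exists_Ut_inverter C
  have h1 : C.Φc (1, c) ≠ 1 := fun e => hcU (by
    have := C.Φc_inj (e.trans (map_one _).symm)
    rw [show c = 1 from congrArg Prod.snd this]
    exact one_mem _)
  have h2 : C.Φc (1, c) * C.Φc (1, c) = 1 := by
    have h4' : C.Φc (1, c) ^ 4 = 1 := by rw [← map_pow, Prod.pow_mk, one_pow, hc4]; exact map_one _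
    have hd := orderOf_dvd_of_pow_eq_one h4'
    have := Nat.le_of_dvd (by norm_num) hd
    have := C.no_orderOf_four (C.Φc (1, c))
    have := mt orderOf_eq_one_iff.1 h1
    have h3 : orderOf (C.Φc (1, c)) ≠ 3 := fun e => by rw [e] at hd; norm_num at hd
    have := orderOf_pos (C.Φc (1, c))
    have ho : orderOf (C.Φc (1, c)) = 2 := by omega
    exact (pow_two _).symm.trans (orderOf_dvd_iff_pow_eq_one.1 (dvd_of_eq ho))
  refine ⟨C.Φc (1, c), h2, h1, fun y hy => ?_⟩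
  have hyW : y ∈ C.WG := by
    rw [← centralizer_WG_elem C hm hx h4]
    exact Subgroup.mem_centralizer_singleton_iff.2 hy
  obtain ⟨z, u, hu, rfl⟩ := C.mem_WG.1 hyW
  rw [← map_inv, ← map_inv, ← map_mul, ← map_mul]
  congr 1
  refine Prod.ext ?_ ?_
  · show 1 * z * 1⁻¹ = z⁻¹
    rw [inv_eq_of_mul_eq_one_right (z2_mul_self z), inv_one, one_mul, mul_one]
  · exact hinv u hu

theorem cc_tor [Fintype (RG K m)] {T : Subgroup (RG K m)} {n : ℕ} (hT : C.IsTor T n) (hn : 1 < n) :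
    ThreeCC.CC T :=
  ⟨hT.card.symm ▸ hn, hT.cent⟩

theorem exists_inverter_tor [Fintype (RG K m)] {T : Subgroup (RG K m)} {n : ℕ} (hT : C.IsTor T n)
    (hn : 1 < n) (hodd : Odd n) :
    ∃ i : RG K m, i * i = 1 ∧ i ≠ 1 ∧ i ∈ Subgroup.normalizer (T : Set (RG K m)) ∧ i ∉ T ∧
      ∀ a ∈ T, i * a * i⁻¹ = a⁻¹ := by
  haveI : Fact (Nat.Prime 2) := ⟨Nat.prime_two⟩
  obtain ⟨⟨i, hi⟩, ho⟩ := exists_prime_orderOf_dvd_card'
    (G := Subgroup.normalizer (T : Set (RG K m))) 2 (by rw [hT.normalizer]; exact ⟨3 * n, by ring⟩)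
  rw [Subgroup.orderOf_mk] at ho
  have h2 : i * i = 1 := by rw [← pow_two, ← ho, pow_orderOf_eq_one]
  have hiT : i ∉ T := fun h => by
    have := Subgroup.orderOf_dvd_natCard _ h
    rw [ho, hT.card] at this
    exact Nat.not_even_iff_odd.2 hodd (even_iff_two_dvd.2 this)
  refine ⟨i, h2, fun e => hiT (e ▸ one_mem T), hi, hiT, fun a ha => ?_⟩
  exact (cc_tor C hT hn).inverts hi hiT (h2 ▸ one_mem T) ha

theorem inverter_tor [Fintype (RG K m)] {T : Subgroup (RG K m)} {n : ℕ} (hT : C.IsTor T n)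
    (hn : 1 < n) (hodd : Odd n) {x : RG K m} (hx : x ∈ T) (hx1 : x ≠ 1) : HasInverter x := by
  obtain ⟨i, h1, h2, -, -, h3⟩ := exists_inverter_tor C hT hn hodd
  exact ⟨i, h1, h2, fun c hc => h3 c (by
    rw [← hT.cent x hx hx1]; exact Subgroup.mem_centralizer_singleton_iff.2 hc)⟩

theorem tor_arith (hm : 1 ≤ m) :
    1 < qq m - rr m + 1 ∧ Odd (qq m - rr m + 1) ∧ 1 < qq m + rr m + 1 ∧ Odd (qq m + rr m + 1) := by
  obtain ⟨-, hr, -⟩ := arith_r C hm
  have h1 : qq m % 2 = 1 := Nat.odd_iff.1 ((by decide : Odd 3).pow)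
  have h2 : rr m % 2 = 1 := Nat.odd_iff.1 ((by decide : Odd 3).pow)
  refine ⟨by omega, Nat.odd_iff.2 (by omega), by omega, Nat.odd_iff.2 (by omega)⟩

theorem hasInverter (hm : 1 ≤ m) {T₁ T₂ : Subgroup (RG K m)}
    [Fintype (RG K m)] (h₁ : C.IsTor T₁ (qq m - rr m + 1)) (h₂ : C.IsTor T₂ (qq m + rr m + 1))
    (hor : ∀ g : RG K m, orderOf g ∣ NN m →
      orderOf g ∣ qq m - rr m + 1 ∨ orderOf g ∣ qq m + rr m + 1)
    {x : RG K m} (h2 : 2 < orderOf x) (h3 : ¬ 3 ∣ orderOf x) : HasInverter x := by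
  have hx1 : x ≠ 1 := fun e => by rw [e, orderOf_one] at h2; omega
  obtain ⟨a1, a2, b1, b2⟩ := tor_arith C hm
  obtain ⟨y, ⟨s, hs, e⟩ | ⟨hy, h4⟩ | hy | hy⟩ := semisimple_cases C hm h₁ h₂ hor h2 h3 <;>
    refine HasInverter.conj y ?_
  · rw [e]; exact inverter_tG C hs
  · exact inverter_WG C hm hy h4
  · exact inverter_tor C h₁ a1 a2 hy fun e => hx1 (conj_eq_one_iff.1 e)
  · exact inverter_tor C h₂ b1 b2 hy fun e => hx1 (conj_eq_one_iff.1 e)

/-! ### Elements of order divisible by three -/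

theorem fix_pow {t : K} (h : t ^ (3 * 3 ^ m) = t) : t ^ 3 = t := by
  have h1 : t ^ 3 ^ m = t := by
    conv_lhs => rw [← h]
    exact C.pow_qq t
  calc t ^ 3 = (t ^ 3 ^ m) ^ 3 := by rw [h1]
    _ = t := by rw [← pow_mul, mul_comm, h]

theorem scale_two_fix {s : Kˣ} (h : (s ^ 3 ^ m) ^ (3 : ℤ) * s ^ (-1 : ℤ) = 1) : s ^ 2 = 1 := by
  rw [_root_.zpow_neg_one, mul_inv_eq_one, show (3 : ℤ) = ((3 : ℕ) : ℤ) from rfl, zpow_natCast,
    ← pow_mul, mul_comm] at h
  have h3 : s ^ 3 = s := Units.ext (by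
    have := fix_pow C (t := (s : K)) (by rw [← Units.val_pow_eq_pow_val, h])
    rwa [Units.val_pow_eq_pow_val])
  exact mul_right_cancel (show s ^ 2 * s = 1 * s by rw [← pow_succ, h3, one_mul])

theorem scale_one_fix {s : Kˣ} (h : (s ^ 3 ^ m) ^ (-3 : ℤ) * s ^ (2 : ℤ) = 1) : s = 1 := by
  rw [_root_.zpow_neg, inv_mul_eq_one, show (3 : ℤ) = ((3 : ℕ) : ℤ) from rfl,
    show (2 : ℤ) = ((2 : ℕ) : ℤ) from rfl, zpow_natCast, zpow_natCast] at h
  have h1 : (s ^ 3 ^ m) ^ 2 = s := by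
    rw [← pow_mul, mul_comm, pow_mul, ← h, ← pow_mul, ← pow_mul,
      show 3 ^ m * (3 * 3 ^ m) = 3 * 3 ^ m * 3 ^ m by ring, C.pow_q_units]
  have h2 : s * s ^ 3 = 1 * s ^ 3 := by
    rw [one_mul, ← pow_succ']
    calc s ^ (3 + 1) = (s ^ 2) ^ 2 := by rw [← pow_mul]
      _ = ((s ^ 3 ^ m) ^ 3) ^ 2 := by rw [h]
      _ = ((s ^ 3 ^ m) ^ 2) ^ 3 := by rw [← pow_mul, ← pow_mul (s ^ 3 ^ m), mul_comm 3 2]
      _ = s ^ 3 := by rw [h1]
  exact mul_right_cancel h2

theorem mem_BG_of_commute {g c : RG K m} (hg : g ∈ C.BG) (h3 : 3 ∣ orderOf g)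
    (hc : c * g = g * c) : c ∈ C.BG :=
  C.mem_BG_of_three hg h3 (by rw [hc, mul_inv_cancel_right]; exact hg)

/-- A Borel element commuting with a unipotent one. -/
theorem commute_form {c : RG K m} {t u v : K} (hc : c ∈ C.BG)
    (h : c * C.uG t u v = C.uG t u v * c) :
    ∃ (s s₁ s₂ : Kˣ) (t' u' v' : K), c = C.uG t' u' v' * C.tG s ∧
      s₁ = (s ^ 3 ^ m) ^ (-3 : ℤ) * s ^ (2 : ℤ) ∧ s₂ = (s ^ 3 ^ m) ^ (3 : ℤ) * s ^ (-1 : ℤ) ∧
      C.uG t' u' v' * C.uG ((s₁ : K) * t) ((s₂ : K) * u) ((s : K) * v) =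
        C.uG t u v * C.uG t' u' v' := by
  obtain ⟨w, hw, s, rfl⟩ := C.mem_BG_iff.1 hc
  obtain ⟨t', u', v', rfl⟩ := C.mem_UG.1 hw
  obtain ⟨s₁, s₂, e1, e2, e3⟩ := C.tG_conj_uG s t u v
  refine ⟨s, s₁, s₂, t', u', v', rfl, e1, e2, ?_⟩
  rw [← e3]
  calc C.uG t' u' v' * (C.tG s * C.uG t u v * (C.tG s)⁻¹)
      = C.uG t' u' v' * C.tG s * C.uG t u v * (C.tG s)⁻¹ := by group
    _ = _ := by rw [h]; group

theorem card_centralizer_nine {g : RG K m} (hg : orderOf g = 9) :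
    Nat.card (Subgroup.centralizer ({g} : Set (RG K m))) ≤ 3 * qq m := by
  classical
  obtain ⟨y, hy⟩ := C.exists_conj_BG (g := g) (by rw [hg]; norm_num)
  rw [← card_centralizer_conj y]
  have ho : orderOf (y * g * y⁻¹) = 9 := by rw [C.orderOf_conj, hg]
  generalize y * g * y⁻¹ = b at hy ho
  obtain ⟨p, hp⟩ := C.bParam.surjective ⟨b, hy⟩
  have e : C.bOrd p = 9 := by rw [← C.orderOf_bParam, hp]; exact ho
  obtain ⟨hs, ht⟩ := (C.bOrd_iff p).2.2.1 e
  obtain ⟨⟨t, u, v⟩, s⟩ := p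
  simp only at hs ht
  subst hs
  have hb : b = C.uG t u v := by
    have := congrArg Subtype.val hp
    simp only at this
    rw [← this]
    show C.uG t u v * C.tG 1 = _
    rw [map_one, mul_one]
  subst hb
  have key : ∀ c : Subgroup.centralizer ({C.uG t u v} : Set (RG K m)), ∃ t' u' v' : K,
      (c : RG K m) = C.uG t' u' v' ∧ t' ∈ ({0, t, -t} : Finset K) ∧
      -((t ^ 3 ^ m) ^ 3 * t' ^ 2) - t * (-((t ^ 3 ^ m) ^ 3 * t') + u') =
        -((t' ^ 3 ^ m) ^ 3 * t ^ 2) - t' * (-((t' ^ 3 ^ m) ^ 3 * t) + u) := by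
    intro c
    have hc := Subgroup.mem_centralizer_singleton_iff.1 c.2
    obtain ⟨s, s₁, s₂, t', u', v', ec, e1, e2, h⟩ :=
      commute_form C (mem_BG_of_commute C hy (by rw [ho]; norm_num) hc) hc
    rw [C.uG_mul_eq, C.uG_mul_eq] at h
    obtain ⟨h1, h2, h3⟩ := C.uG_inj h
    have hs1 : s₁ = 1 := Units.ext (mul_right_cancel₀ ht (show (s₁ : K) * t = ((1 : Kˣ) : K) * t by
      rw [Units.val_one]; linear_combination h1))
    have hs : s = 1 := scale_one_fix C (e1 ▸ hs1)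
    subst hs
    rw [map_one, mul_one] at ec
    simp only [one_pow, _root_.one_zpow, mul_one] at e2
    subst e2
    rw [hs1] at h2 h3
    simp only [Units.val_one, one_mul] at h2 h3
    refine ⟨t', u', v', ec, ?_, by linear_combination h3⟩
    have hp : (t' / t) ^ (3 * 3 ^ m) = t' / t := by
      rw [div_pow, div_eq_div_iff (pow_ne_zero _ ht) ht, mul_comm 3 (3 ^ m), pow_mul, pow_mul]
      linear_combination h2
    have h3' := fix_pow C hp
    simp only [Finset.mem_insert, Finset.mem_singleton]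
    rcases eq_or_ne (t' / t) 0 with h0 | h0
    · left; exact (div_eq_zero_iff.1 h0).resolve_right ht
    · have : (t' / t) ^ 2 = 1 :=
        mul_right_cancel₀ h0 (by rw [← pow_succ, h3', one_mul])
      rcases sq_eq_one_iff.1 this with h' | h'
      · right; left; rw [div_eq_iff ht, one_mul] at h'; exact h'
      · right; right; rw [div_eq_iff ht] at h'; linear_combination h'
  choose t' u' v' hc ht' hv using key
  let f : Subgroup.centralizer ({C.uG t u v} : Set (RG K m)) → ({0, t, -t} : Finset K) × K :=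
    fun c => (⟨t' c, ht' c⟩, v' c)
  have hf : Function.Injective f := by
    intro c c' h
    simp only [f, Prod.mk.injEq, Subtype.mk.injEq] at h
    have := hv c
    rw [h.1] at this
    have hu : u' c = u' c' := mul_left_cancel₀ ht (by linear_combination (hv c') - this)
    exact Subtype.ext (by rw [hc c, hc c', h.1, h.2, hu])
  refine (Nat.card_le_card_of_injective f hf).trans ?_
  rw [Nat.card_prod, C.card_field, Nat.card_eq_finsetCard]
  exact Nat.mul_le_mul_right _ Finset.card_le_three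

theorem card_centralizer_six {g : RG K m} (hg : orderOf g = 6) :
    Nat.card (Subgroup.centralizer ({g} : Set (RG K m))) ≤ 3 * qq m := by
  classical
  obtain ⟨y, hy⟩ := C.exists_conj_BG (g := g) (by rw [hg]; norm_num)
  rw [← card_centralizer_conj y]
  have ho : orderOf (y * g * y⁻¹) = 6 := by rw [C.orderOf_conj, hg]
  generalize y * g * y⁻¹ = b at hy ho
  obtain ⟨p, hp⟩ := C.bParam.surjective ⟨b, hy⟩
  have e : C.bOrd p = 6 := by rw [← C.orderOf_bParam, hp]; exact ho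
  obtain ⟨hs, hne⟩ := (C.bOrd_iff p).2.1.1 e
  obtain ⟨⟨t, u, v⟩, s⟩ := p
  simp only at hs hne
  subst hs
  have hb : b = C.uG t u v * C.aG := by
    have := congrArg Subtype.val hp
    simp only at this
    rw [← this]
    rfl
  subst hb
  obtain ⟨u₂, v₂, e2, hiff⟩ := C.sq_uh_neg t u v
  have h2 : (2 : K) ≠ 0 := fun h2 => one_ne_zero (show (1 : K) = 0 by
    linear_combination C.three_eq - h2)
  -- the square is not central in `U`
  have hu₂ : u₂ ≠ 0 := by
    rintro rfl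
    refine hne (hiff.1 ?_)
    have hz : C.uG t u v * C.aG * C.uG 0 0 v₂ = C.uG 0 0 v₂ * (C.uG t u v * C.aG) := by
      rw [← e2, ← pow_succ, ← pow_succ']
    have hcomm : Commute C.aG (C.uG 0 0 v₂) := by
      refine mul_left_cancel (a := C.uG t u v) ?_
      rw [← mul_assoc, hz, ← mul_assoc, C.centre_comm v₂ (C.uG_mem t u v), mul_assoc]
    obtain ⟨p, hp⟩ := (C.aG_commute_iff (C.uG_mem 0 0 v₂)).1 hcomm
    rw [show v₂ = 0 from (C.uG_inj hp).2.2, C.uG_zero]
  have key : ∀ c : Subgroup.centralizer ({C.uG t u v * C.aG} : Set (RG K m)),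
      ∃ (s : Kˣ) (t' u' v' : K), (c : RG K m) = C.uG t' u' v' * C.tG s ∧
      s ∈ ({1, -1} : Finset Kˣ) ∧ t' * u₂ = v₂ * (1 - (s : K)) ∧
      ∀ tt uu vv, C.tG s * C.uG t u v * (C.tG s)⁻¹ = C.uG tt uu vv →
        -((tt ^ 3 ^ m) ^ 3 * t' ^ 2) + v' - tt * (-((tt ^ 3 ^ m) ^ 3 * t') + u') + vv =
        -(((-t') ^ 3 ^ m) ^ 3 * t ^ 2) + v - (-t') * (-(((-t') ^ 3 ^ m) ^ 3 * t) + u) + -v' := by
    intro c
    have hc := Subgroup.mem_centralizer_singleton_iff.1 c.2
    have hcB := mem_BG_of_commute C hy (by rw [ho]; norm_num) hc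
    have hc2 : (c : RG K m) * C.uG 0 u₂ v₂ = C.uG 0 u₂ v₂ * c := by
      rw [← e2]
      exact ((show Commute (c : RG K m) _ from hc).pow_right 2).eq
    obtain ⟨s, s₁, s₂, t', u', v', ec, -, e2', h⟩ := commute_form C hcB hc2
    rw [mul_zero, C.uG_mul_tail, C.tail_mul_uG] at h
    obtain ⟨-, h1, h2'⟩ := C.uG_inj h
    have hs2 : s₂ = 1 := Units.ext (mul_right_cancel₀ hu₂
      (show (s₂ : K) * u₂ = ((1 : Kˣ) : K) * u₂ by rw [Units.val_one]; linear_combination h1))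
    have hs : s ^ 2 = 1 := scale_two_fix C (e2' ▸ hs2)
    refine ⟨s, t', u', v', ec, ?_, by linear_combination h2', fun tt uu vv htt => ?_⟩
    · rcases C.units_sq_cases hs with rfl | rfl <;> simp
    have hca : C.tG s * C.aG = C.aG * C.tG s := by
      show C.tG s * C.tG (-1) = C.tG (-1) * C.tG s
      rw [← map_mul, ← map_mul, mul_comm]
    have h' : C.uG t' u' v' * C.uG tt uu vv = C.uG t u v * C.uG (-t') u' (-v') := by
      rw [← htt, ← C.aG_conj_uG]
      rw [ec] at hc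
      calc C.uG t' u' v' * (C.tG s * C.uG t u v * (C.tG s)⁻¹)
          = C.uG t' u' v' * C.tG s * (C.uG t u v * C.aG) * C.aG⁻¹ * (C.tG s)⁻¹ := by group
        _ = C.uG t u v * C.aG * C.uG t' u' v' * ((C.tG s * C.aG⁻¹) * (C.tG s)⁻¹) := by
            rw [hc]; group
        _ = _ := by
            rw [(show Commute (C.tG s) C.aG from hca).inv_right.eq, mul_inv_cancel_right]
            group
    rw [C.uG_mul_eq, C.uG_mul_eq] at h'
    exact (C.uG_inj h').2.2
  choose s t' u' v' hc hs ht' hv using key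
  let f : Subgroup.centralizer ({C.uG t u v * C.aG} : Set (RG K m)) → ({1, -1} : Finset Kˣ) × K :=
    fun c => (⟨s c, hs c⟩, u' c)
  have hf : Function.Injective f := by
    intro c c' h
    simp only [f, Prod.mk.injEq, Subtype.mk.injEq] at h
    have htt : t' c = t' c' := mul_right_cancel₀ hu₂ (by rw [ht', ht', h.1])
    obtain ⟨s₁, s₂, -, -, hconj⟩ := C.tG_conj_uG (s c) t u v
    have a := hv c _ _ _ hconj
    have b := hv c' _ _ _ (h.1 ▸ hconj)
    rw [htt, h.2, h.1] at a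
    have hv' : v' c = v' c' := mul_left_cancel₀ h2 (by linear_combination a - b)
    exact Subtype.ext (by rw [hc c, hc c', h.1, h.2, htt, hv'])
  refine (Nat.card_le_card_of_injective f hf).trans ?_
  rw [Nat.card_prod, C.card_field, Nat.card_eq_finsetCard]
  exact Nat.mul_le_mul_right _ (Finset.card_le_two.trans (by norm_num))

theorem card_centralizer_long {v : K} (hv : v ≠ 0) :
    Nat.card (Subgroup.centralizer ({C.uG 0 0 v} : Set (RG K m))) ≤ qq m ^ 3 := by
  haveI : Fact (Nat.Prime 3) := ⟨Nat.prime_three⟩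
  have hne : C.uG 0 0 v ≠ 1 := fun e => hv (C.uG_inj (e.trans C.uG_zero.symm)).2.2
  have ho : orderOf (C.uG 0 0 v) = 3 := orderOf_eq_prime (C.uG_pow_three_eq_one.2 rfl) hne
  refine (Subgroup.card_le_of_le (fun c hc => ?_)).trans C.card_UG.le
  rw [Subgroup.mem_centralizer_singleton_iff] at hc
  obtain ⟨s, s₁, s₂, t', u', v', ec, -, -, h⟩ := commute_form C
    (mem_BG_of_commute C (C.UG_le_BG (C.uG_mem _ _ _)) (by rw [ho]) hc) hc
  rw [mul_zero, mul_zero, C.uG_mul_tail, C.tail_mul_uG] at h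
  obtain ⟨-, -, h3⟩ := C.uG_inj h
  have hs : s = 1 := Units.ext (mul_right_cancel₀ hv
    (show (s : K) * v = ((1 : Kˣ) : K) * v by rw [Units.val_one]; linear_combination h3))
  rw [ec, hs, map_one, mul_one]
  exact C.uG_mem _ _ _

/-- The centraliser bound for elements of order other than two and three. -/
theorem card_centralizer_le (hm : 1 ≤ m) {T₁ T₂ : Subgroup (RG K m)}
    [Fintype (RG K m)] (h₁ : C.IsTor T₁ (qq m - rr m + 1)) (h₂ : C.IsTor T₂ (qq m + rr m + 1))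
    (hor : ∀ g : RG K m, orderOf g ∣ NN m →
      orderOf g ∣ qq m - rr m + 1 ∨ orderOf g ∣ qq m + rr m + 1)
    {g : RG K m} (hg : g ≠ 1) (hg2 : orderOf g ≠ 2) (hg3 : orderOf g ≠ 3) :
    Nat.card (Subgroup.centralizer ({g} : Set (RG K m))) ≤ 3 * qq m := by
  have hr := (arith_r C hm).2.1
  have hq := qq_ge hm
  by_cases h3 : 3 ∣ orderOf g
  · rcases C.order_cases hm hg with e | ⟨-, e | e | e⟩ | ⟨-, e, -⟩ | ⟨-, e, -⟩ | ⟨-, e, -⟩
    · exact absurd e hg2
    · exact absurd e hg3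
    · exact card_centralizer_six C e
    · exact card_centralizer_nine C e
    · exact absurd e (C.exclusive.2.2.2.1 h3).1
    · exact absurd e (C.exclusive.2.2.2.1 h3).2.1
    · exact absurd e (C.exclusive.2.2.2.1 h3).2.2
  · have := mt orderOf_eq_one_iff.1 hg
    have := orderOf_pos g
    rcases card_centralizer_semisimple C hm h₁ h₂ hor (show 2 < orderOf g by omega) h3 with
      h | ⟨y, -, h⟩ <;> omega

end CfsgLib.ReeSquare
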