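import Cfsg.Agent.Char.ClassProducts
import Mathlib.RepresentationTheory.Character
import Mathlib.Tactic

/-!
Products of two conjugates of a real element, by characters.
-/

set_option autoImplicit false
set_option linter.style.haveILetI false
set_option linter.unusedSectionVars false

namespace CfsgLib.ReeSquare

open CfsgLib.Char
open scoped ComplexConjugate

universe u v

section Group

variable {G : Type u} [Group G]

/-- `g` is a product of two conjugates of `x`. -/
def Cover (x g : G) : Prop := ∃ u v : G, g = (u * x * u⁻¹) * (v * x * v⁻¹)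

theorem Cover.conj {x g : G} (h : Cover x g) (y : G) : Cover x (y * g * y⁻¹) := by
  obtain ⟨u, v, rfl⟩ := h
  exact ⟨y * u, y * v, by group⟩

theorem Cover.of_conj {x g : G} (y : G) (h : Cover x (y * g * y⁻¹)) : Cover x g := by
  have := h.conj y⁻¹
  simpa [mul_assoc] using this

theorem Cover.of_conj_left {x g : G} (y : G) (h : Cover (y * x * y⁻¹) g) : Cover x g := by
  obtain ⟨u, v, rfl⟩ := h
  exact ⟨u * y, v * y, by group⟩

theorem cover_of_mul_inv {x a b : G} (hx : IsConj x x⁻¹) (ha : IsConj x a) (hb : IsConj x b) :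
    Cover x (a * b⁻¹) := by
  obtain ⟨c, hc⟩ := isConj_iff.1 hx
  obtain ⟨u, rfl⟩ := isConj_iff.1 ha
  obtain ⟨v, rfl⟩ := isConj_iff.1 hb
  refine ⟨u, v * c, ?_⟩
  rw [show v * c * x * (v * c)⁻¹ = v * (c * x * c⁻¹) * v⁻¹ by group, hc]
  group

end Group

variable {G : Type u} [Group G] [Fintype G]

/-- The character sum counting the ways to write `g` as a product of two conjugates of `x`. -/
noncomputable def sq (x g : G) : ℂ := ∑ χ ∈ irrFinset G, χ x * conj (χ x) * χ g / χ 1

theorem cover_of_sq_ne {x g : G} (hx : IsConj x x⁻¹) (h : sq x g ≠ 0) : Cover x g := by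
  classical
  have hreal : ∀ χ ∈ irrFinset G, conj (χ x) = χ x := fun χ hχ => by
    rw [← IsIrrCharacter.apply_inv (mem_irrFinset.1 hχ)]
    exact (IsClassFunction.apply_eq_of_isConj
      (IsIrrCharacter.isClassFunction (mem_irrFinset.1 hχ)) hx).symm
  have hc : ∑ χ ∈ irrFinset G, χ x * χ x * conj (χ g) / χ 1 = conj (sq x g) := by
    rw [sq, map_sum]
    refine Finset.sum_congr rfl fun χ hχ => ?_
    obtain ⟨n, -, hn⟩ := IsIrrCharacter.exists_degree (mem_irrFinset.1 hχ)
    simp only [map_div₀, map_mul, hreal χ hχ, hn, Complex.conj_natCast]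
  have hk := card_class_products x x g
  rw [hc] at hk
  have hne : (Nat.card {p : G × G // IsConj x p.1 ∧ IsConj x p.2 ∧ p.1 * p.2 = g} : ℂ) ≠ 0 := by
    rw [hk]
    refine mul_ne_zero (div_ne_zero (mul_ne_zero ?_ ?_) (by simp)) (by simpa using h) <;>
    · haveI : Nonempty {y : G // IsConj x y} := ⟨⟨x, IsConj.refl x⟩⟩
      exact_mod_cast (Nat.card_pos (α := {y : G // IsConj x y})).ne'
  obtain ⟨⟨⟨a, b⟩, ha, hb, hab⟩⟩ := (Nat.card_ne_zero.1 (by exact_mod_cast hne)).1
  obtain ⟨u, rfl⟩ := isConj_iff.1 ha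
  obtain ⟨v, rfl⟩ := isConj_iff.1 hb
  exact ⟨u, v, hab.symm⟩

theorem sq_one (x : G) : sq x 1 = (Nat.card (Subgroup.centralizer ({x} : Set G)) : ℂ) := by
  classical
  have h := sum_irr_mul_conj x x
  rw [if_pos (IsConj.refl x)] at h
  rw [← h, sq]
  exact Finset.sum_congr rfl fun χ hχ => by
    rw [mul_div_assoc, div_self (IsIrrCharacter.apply_one_ne_zero (mem_irrFinset.1 hχ)), mul_one]

theorem sq_congr {x x' g g' : G} (hx : IsConj x x') (hg : IsConj g g') : sq x g = sq x' g' :=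
  Finset.sum_congr rfl fun χ hχ => by
    have hcl := IsIrrCharacter.isClassFunction (mem_irrFinset.1 hχ)
    rw [IsClassFunction.apply_eq_of_isConj hcl hx, IsClassFunction.apply_eq_of_isConj hcl hg]

theorem sq_inv (x g : G) : sq x g⁻¹ = conj (sq x g) := by
  rw [sq, sq, map_sum]
  refine Finset.sum_congr rfl fun χ hχ => ?_
  obtain ⟨n, -, hn⟩ := IsIrrCharacter.exists_degree (mem_irrFinset.1 hχ)
  simp only [map_div₀, map_mul, Complex.conj_conj, IsIrrCharacter.apply_inv (mem_irrFinset.1 hχ),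
    hn, Complex.conj_natCast]
  ring

/-- The trivial character. -/
abbrev triv (G : Type u) : G → ℂ := fun _ => 1

theorem triv_mem : triv G ∈ irrFinset G := mem_irrFinset.2 isIrrCharacter_one

theorem weight_eq (x : G) {χ : G → ℂ} (hχ : χ ∈ irrFinset G) :
    ∃ d : ℕ, 0 < d ∧ χ 1 = d ∧ χ x * conj (χ x) / χ 1 = ((Complex.normSq (χ x) / d : ℝ) : ℂ) := by
  obtain ⟨n, hn0, hn⟩ := IsIrrCharacter.exists_degree (mem_irrFinset.1 hχ)
  refine ⟨n, hn0, hn, ?_⟩
  rw [Complex.mul_conj, hn]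
  push_cast
  rfl

/-- Averages over images of finite groups are at least one. -/
theorem card_le_re_sum (x : G) {H : Type v} [Group H] [Fintype H] (f : H →* G) :
    (Fintype.card H : ℝ) ≤ (∑ h, sq x (f h)).re := by
  classical
  have hk : ∀ χ ∈ irrFinset G, ∃ k : ℕ, ∑ h, χ (f h) = (Fintype.card H : ℂ) * k := fun χ hχ => by
    obtain ⟨n, σ, hσ⟩ := IsCharacter.comp (IsIrrCharacter.isCharacter (mem_irrFinset.1 hχ)) f
    haveI : Invertible (Nat.card H : ℂ) := invertibleOfNonzero (Nat.cast_ne_zero.2 Nat.card_pos.ne')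
    have h := σ.card_inv_mul_sum_char_eq_finrank
    rw [inv_mul_eq_iff_eq_mul₀ (Nat.cast_ne_zero.2 Nat.card_pos.ne'), Nat.card_eq_fintype_card] at h
    exact ⟨_, (Finset.sum_congr rfl fun y _ => ((congrFun hσ y).symm : χ (f y) = σ.character y)).trans h⟩
  have key : ∀ χ ∈ irrFinset G, ∃ r : ℝ, 0 ≤ r ∧
      ∑ h, χ x * conj (χ x) * χ (f h) / χ 1 = (r : ℂ) := fun χ hχ => by
    obtain ⟨d, -, -, hw⟩ := weight_eq x hχ
    obtain ⟨k, hk⟩ := hk χ hχ
    refine ⟨Complex.normSq (χ x) / d * (Fintype.card H * k), mul_nonneg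
      (div_nonneg (Complex.normSq_nonneg _) (Nat.cast_nonneg _)) (by positivity), ?_⟩
    rw [Finset.sum_congr rfl fun h _ => show χ x * conj (χ x) * χ (f h) / χ 1 =
      χ x * conj (χ x) / χ 1 * χ (f h) by ring, ← Finset.mul_sum, hw, hk]
    push_cast
    ring
  simp only [sq]
  rw [Finset.sum_comm, Complex.re_sum]
  refine le_trans ?_ (Finset.single_le_sum (f := fun χ : G → ℂ =>
    (∑ h, χ x * conj (χ x) * χ (f h) / χ 1).re) (fun χ hχ => ?_) (triv_mem (G := G)))
  · simp [triv]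
  · obtain ⟨r, hr, e⟩ := key χ hχ
    rw [e, Complex.ofReal_re]
    exact hr

/-- The sum is near one when the centraliser of `g` is small and all degrees are large. -/
theorem norm_sq_sub_one_le (x : G) {g : G} {B d : ℝ} (hd : 0 < d) (hB : 0 ≤ B)
    (hC : (Nat.card (Subgroup.centralizer ({g} : Set G)) : ℝ) ≤ B ^ 2)
    (hdeg : ∀ χ ∈ irrFinset G, χ ≠ triv G → d ≤ (χ 1).re) :
    ‖sq x g - 1‖ ≤ ((Nat.card (Subgroup.centralizer ({x} : Set G)) : ℝ) - 1) * B / d := by
  classical
  have hnorm : ∀ y : G, ∑ χ ∈ irrFinset G, Complex.normSq (χ y) =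
      (Nat.card (Subgroup.centralizer ({y} : Set G)) : ℝ) := fun y => by
    have h := sum_irr_mul_conj y y
    rw [if_pos (IsConj.refl y)] at h
    simp only [Complex.mul_conj, ← Complex.ofReal_sum] at h
    exact_mod_cast h
  have h1 : sq x g - 1 = ∑ χ ∈ (irrFinset G).erase (triv G), χ x * conj (χ x) * χ g / χ 1 := by
    rw [Finset.sum_erase_eq_sub triv_mem]
    simp [sq, triv]
  have h2 : ∑ χ ∈ (irrFinset G).erase (triv G), Complex.normSq (χ x) =
      (Nat.card (Subgroup.centralizer ({x} : Set G)) : ℝ) - 1 := by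
    rw [Finset.sum_erase_eq_sub triv_mem, hnorm]
    simp [triv]
  rw [h1, ← h2, Finset.sum_mul, Finset.sum_div]
  refine (norm_sum_le _ _).trans (Finset.sum_le_sum fun χ hχ => ?_)
  obtain ⟨hne, hmem⟩ := Finset.mem_erase.1 hχ
  obtain ⟨n, hn0, hn⟩ := IsIrrCharacter.exists_degree (mem_irrFinset.1 hmem)
  have hdn : d ≤ (n : ℝ) := by simpa [hn] using hdeg χ hmem hne
  have hg : ‖χ g‖ ≤ B := by
    refine le_of_pow_le_pow_left₀ two_ne_zero hB ?_
    rw [← Complex.normSq_eq_norm_sq]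
    refine le_trans ?_ ((hnorm g).trans_le hC)
    exact Finset.single_le_sum (f := fun ψ : G → ℂ => Complex.normSq (ψ g))
      (fun ψ _ => Complex.normSq_nonneg _) hmem
  rw [norm_div, norm_mul, Complex.mul_conj, Complex.norm_real, Real.norm_eq_abs,
    abs_of_nonneg (Complex.normSq_nonneg _), hn, Complex.norm_natCast]
  have := Complex.normSq_nonneg (χ x)
  gcongr

/-- A nonzero sum from the bound. -/
theorem sq_ne_zero (x : G) {g : G} {B d : ℝ} (hd : 0 < d) (hB : 0 ≤ B)
    (hC : (Nat.card (Subgroup.centralizer ({g} : Set G)) : ℝ) ≤ B ^ 2)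
    (hdeg : ∀ χ ∈ irrFinset G, χ ≠ triv G → d ≤ (χ 1).re)
    (hlt : ((Nat.card (Subgroup.centralizer ({x} : Set G)) : ℝ) - 1) * B < d) :
    sq x g ≠ 0 := fun h => by
  have := norm_sq_sub_one_le x hd hB hC hdeg
  rw [h, zero_sub, norm_neg, norm_one, le_div_iff₀ hd, one_mul] at this
  linarith

/-- Characters of degree one of a perfect group are trivial. -/
theorem eq_triv_of_degree_one (hperf : commutator G = ⊤) {χ : G → ℂ}
    (hχ : Cfsg.IsIrrCharacter G χ) (h1 : χ 1 = 1) : χ = triv G := by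
  obtain ⟨n, ρ, -, rfl⟩ := hχ
  have hn : n = 1 := by
    rw [ρ.char_one, Module.finrank_fin_fun] at h1
    exact_mod_cast h1
  subst hn
  let lam : G →* ℂ := LinearMap.det.comp ρ
  have hlam : ∀ g, ρ.character g = lam g := fun g => by
    show LinearMap.trace ℂ _ (ρ g) = LinearMap.det (ρ g)
    rw [← LinearMap.det_toMatrix', LinearMap.trace_eq_matrix_trace ℂ (Pi.basisFun ℂ (Fin 1)),
      Matrix.det_fin_one, Matrix.trace_fin_one, LinearMap.toMatrix_eq_toMatrix']
  let lam' : G →* ℂˣ := lam.toHomUnits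
  have hker : (⊤ : Subgroup G) ≤ lam'.ker := hperf ▸ Abelianization.commutator_subset_ker lam'
  funext g
  have hg : lam' g = 1 := hker (Subgroup.mem_top g)
  rw [hlam]
  exact congrArg Units.val hg

end CfsgLib.ReeSquare
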