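import Cfsg.Agent.ReeSquare.Order
import Cfsg.Agent.ThreeCC.Column
import Mathlib.GroupTheory.SpecificGroups.Dihedral

/-!
Involutions as products of two conjugates: the dihedral group on a Hall torus.
-/

set_option autoImplicit false
set_option linter.style.haveILetI false
set_option linter.unusedSectionVars false

namespace CfsgLib.ReeSquare

open CfsgLib.Chev.G2Tw
open CfsgLib.Chev.G2Tw.Ctx (qq NN qq_ge)
open Cfsg.Lie CfsgLib.Char
open scoped ComplexConjugate Classical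

section Dihedral

variable {G : Type*} [Group G]

/-- The map of a dihedral group given by a rotation and an inverting involution. -/
noncomputable def dihedralHom {n : ℕ} [NeZero n] (π : Multiplicative (ZMod n) →* G) (i : G)
    (hi : i * i = 1) (hinv : ∀ a, i * π a * i = (π a)⁻¹) : DihedralGroup n →* G :=
  MonoidHom.mk' (fun h => match h with
    | .r a => π (Multiplicative.ofAdd a)
    | .sr a => i * π (Multiplicative.ofAdd a)) (by
    have hi' : i⁻¹ = i := inv_eq_of_mul_eq_one_right hi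
    have hmove : ∀ a, π a * i = i * (π a)⁻¹ := fun a => by
      rw [← hinv a, ← mul_assoc, ← mul_assoc, hi, one_mul]
    rintro (a | a) (b | b)
    · simp only [DihedralGroup.r_mul_r, ofAdd_add, map_mul]
    · simp only [DihedralGroup.r_mul_sr]
      rw [← mul_assoc, hmove, mul_assoc, ← map_inv, ← map_mul]
      congr 2
      rw [← ofAdd_neg, ← ofAdd_add, neg_add_eq_sub]
    · simp only [DihedralGroup.sr_mul_r, ofAdd_add, map_mul, mul_assoc]
    · simp only [DihedralGroup.sr_mul_sr]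
      rw [show i * π (Multiplicative.ofAdd a) * (i * π (Multiplicative.ofAdd b)) =
        i * π (Multiplicative.ofAdd a) * i * π (Multiplicative.ofAdd b) by group, hinv, ← map_inv,
        ← map_mul]
      congr 1
      rw [← ofAdd_neg, ← ofAdd_add, neg_add_eq_sub])

end Dihedral

variable {K : Type*} [Field K] [Fintype K] {m : ℕ} (C : Ctx K m) [Fintype (RG K m)]
include C

/-- A dihedral group covering a Hall torus. -/
theorem exists_dihedral (hm : 1 ≤ m) (D : Tori C) :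
    ∃ (H : Type) (_ : Group H) (_ : Fintype H) (f : H →* RG K m),
      Fintype.card H = 2 * (qq m + rr m + 1) ∧
      ∀ F : RG K m → ℂ, (∀ g h : RG K m, IsConj g h → F g = F h) →
        ∑ h, F (f h) = ((qq m + rr m + 1 : ℕ) : ℂ) * F C.aG + ∑ r : D.T₂, F r := by
  classical
  obtain ⟨-, -, hn1, hnodd⟩ := tor_arith C hm
  have hcard := D.h₂.card
  obtain ⟨i, hi2, -, -, hiT, hinv⟩ := exists_inverter_tor C D.h₂ hn1 hnodd
  set n := qq m + rr m + 1 with hn
  haveI : NeZero n := ⟨by omega⟩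
  haveI := D.h₂.cyc
  let e : Multiplicative (ZMod n) ≃* D.T₂ :=
    mulEquivOfCyclicCardEq (by rw [hcard, Nat.card_congr Multiplicative.toAdd, Nat.card_zmod])
  let π : Multiplicative (ZMod n) →* RG K m := D.T₂.subtype.comp e.toMonoidHom
  let f := dihedralHom π i hi2 fun a => by
    have := hinv _ (e a).2
    rwa [inv_eq_of_mul_eq_one_right hi2] at this
  refine ⟨DihedralGroup n, inferInstance, inferInstance, f, DihedralGroup.card, fun F hF => ?_⟩
  let eq : DihedralGroup n ≃ ZMod n ⊕ ZMod n :=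
    { toFun := fun h => match h with
        | .r a => Sum.inl a
        | .sr a => Sum.inr a
      invFun := Sum.elim .r .sr
      left_inv := by rintro (a | a) <;> rfl
      right_inv := by rintro (a | a) <;> rfl }
  rw [← eq.symm.sum_comp fun h => F (f h), Fintype.sum_sum_type, add_comm]
  congr 1
  · have : ∀ a : ZMod n, F (f (eq.symm (Sum.inr a))) = F C.aG := fun a => by
      show F (i * (e (Multiplicative.ofAdd a) : RG K m)) = _
      set b := e (Multiplicative.ofAdd a)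
      have hib : i * b.1 * (i * b.1) = 1 := by
        have := hinv b.1 b.2
        rw [inv_eq_of_mul_eq_one_right hi2] at this
        rw [← mul_assoc, this, inv_mul_cancel]
      refine (hF _ _ (C.isConj_aG hm (g := i * b.1) hib fun h => hiT ?_).symm)
      rw [eq_inv_of_mul_eq_one_left h]
      exact inv_mem b.2
    rw [Finset.sum_congr rfl fun a _ => this a, Finset.sum_const, Finset.card_univ, ZMod.card,
      nsmul_eq_mul]
  · exact (Multiplicative.ofAdd.trans e.toEquiv).sum_comp fun r : D.T₂ => F r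

/-- The inequality from the dihedral group. -/
theorem sum_irr_nonneg (hm : 1 ≤ m) (D : Tori C) {χ : RG K m → ℂ} (hχ : χ ∈ irrFinset (RG K m)) :
    0 ≤ ((qq m + rr m + 1 : ℕ) : ℝ) * (χ C.aG).re + (∑ r : D.T₂, χ r).re := by
  obtain ⟨H, _, _, f, -, hf⟩ := exists_dihedral C hm D
  have hirr := mem_irrFinset.1 hχ
  obtain ⟨n, σ, hσ⟩ := IsCharacter.comp (IsIrrCharacter.isCharacter hirr) f
  haveI : Invertible (Nat.card H : ℂ) := invertibleOfNonzero (Nat.cast_ne_zero.2 Nat.card_pos.ne')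
  have h := σ.card_inv_mul_sum_char_eq_finrank
  rw [inv_mul_eq_iff_eq_mul₀ (Nat.cast_ne_zero.2 Nat.card_pos.ne'),
    Finset.sum_congr rfl fun y _ => ((congrFun hσ y) : σ.character y = χ (f y)),
    hf χ fun g g' e => IsClassFunction.apply_eq_of_isConj (IsIrrCharacter.isClassFunction hirr) e]
    at h
  have h' := congrArg Complex.re h
  rw [Complex.add_re, ← Complex.ofReal_natCast, Complex.re_ofReal_mul, ← Nat.cast_mul,
    Complex.natCast_re] at h'
  rw [h']
  exact Nat.cast_nonneg _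

theorem arith_s : (qq m : ℝ) = 3 * ((3 : ℝ) ^ m) ^ 2 ∧ (rr m : ℝ) = 3 * (3 : ℝ) ^ m := by
  constructor
  · rw [← pow_mul, mul_comm m 2, ← pow_succ']
    push_cast [qq]
    rfl
  · rw [← pow_succ']
    push_cast [rr]
    rfl

/-- Involutions, when the centraliser of `x` is small. -/
theorem cover_involution_small (hm : 1 ≤ m) (D : Tori C) {x : RG K m} (hx : IsConj x x⁻¹)
    (hT : Nat.card (Subgroup.centralizer ({x} : Set (RG K m))) ≤ qq m + 1) :
    Cover x C.aG := by
  classical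
  refine cover_of_sq_ne hx fun h0 => ?_
  obtain ⟨H, _, _, f, hH, hf⟩ := exists_dihedral C hm D
  have h := card_le_re_sum x f
  rw [hH, hf (sq x) (fun g g' e => sq_congr (IsConj.refl x) e), h0, mul_zero, zero_add,
    ← Finset.add_sum_erase _ _ (Finset.mem_univ (1 : D.T₂)), OneMemClass.coe_one, sq_one,
    Complex.add_re, Complex.natCast_re, Complex.re_sum] at h
  obtain ⟨hqs, hrs⟩ := arith_s C
  set s : ℝ := (3 : ℝ) ^ m with hs
  have hs3 : 3 ≤ s := by
    calc (3 : ℝ) = 3 ^ 1 := (pow_one _).symm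
      _ ≤ s := pow_le_pow_right₀ (by norm_num) hm
  have hN := NN_real C hm
  have hNpos : (0 : ℝ) < NN m := by exact_mod_cast Nat.succ_pos _
  have hterm : ∀ r ∈ (Finset.univ : Finset D.T₂).erase 1,
      (sq x r).re ≤ 1 + (qq m : ℝ) * (2 * s + 1) / NN m := fun r hr => by
    have hr1 : (r : RG K m) ≠ 1 := fun e => (Finset.mem_erase.1 hr).1 (Subtype.ext e)
    have hb := norm_sq_sub_one_le x (g := (r : RG K m)) (B := 2 * s + 1) hNpos
      (by positivity) ?_ (deg_ge C hm)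
    · have h' := (Complex.re_le_norm _).trans hb
      rw [Complex.sub_re, Complex.one_re] at h'
      have : ((Nat.card (Subgroup.centralizer ({x} : Set (RG K m))) : ℝ) - 1) * (2 * s + 1) / NN m ≤
          (qq m : ℝ) * (2 * s + 1) / NN m := by
        gcongr
        have : (Nat.card (Subgroup.centralizer ({x} : Set (RG K m))) : ℝ) ≤ qq m + 1 := by
          exact_mod_cast hT
        linarith
      linarith
    · rw [D.h₂.cent _ r.2 hr1, D.h₂.card]
      push_cast [Nat.cast_add]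
      rw [show ((3 : ℝ) ^ (2 * m + 1)) = qq m by push_cast [qq]; rfl,
        show ((3 : ℝ) ^ (m + 1)) = rr m by push_cast [rr]; rfl, hqs, hrs]
      nlinarith
  have h1 := Finset.sum_le_card_nsmul _ _ _ hterm
  rw [Finset.card_erase_of_mem (Finset.mem_univ _), Finset.card_univ, ← Nat.card_eq_fintype_card,
    D.h₂.card, Nat.add_sub_cancel, nsmul_eq_mul, Nat.cast_add, mul_add, mul_one] at h1
  have hT' : (Nat.card (Subgroup.centralizer ({x} : Set (RG K m))) : ℝ) ≤ qq m + 1 := by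
    exact_mod_cast hT
  rw [Nat.cast_mul, Nat.cast_add, Nat.cast_add, Nat.cast_one, Nat.cast_ofNat] at h
  have h2 : ((qq m : ℝ) + rr m) * ((qq m : ℝ) * (2 * s + 1) / NN m) < rr m + 1 := by
    rw [mul_div_assoc', div_lt_iff₀ hNpos, hN, hqs, hrs]
    nlinarith [mul_le_mul_of_nonneg_left hs3 (pow_nonneg (show 0 ≤ s by linarith) 4),
      mul_le_mul_of_nonneg_left hs3 (pow_nonneg (show 0 ≤ s by linarith) 3),
      mul_le_mul_of_nonneg_left hs3 (pow_nonneg (show 0 ≤ s by linarith) 2)]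
  linarith

theorem exists_frame (hm : 1 ≤ m) (D : Tori C) : ∃ u, ThreeCC.Frame D.T₂ 6 u := by
  classical
  obtain ⟨-, -, hn1, hnodd⟩ := tor_arith C hm
  obtain ⟨i, hi2, -, hiN, hiT, hinv⟩ := exists_inverter_tor C D.h₂ hn1 hnodd
  have hcc := cc_tor C D.h₂ hn1
  set N := Subgroup.normalizer (D.T₂ : Set (RG K m)) with hNdef
  haveI : Fact (Nat.Prime 3) := ⟨Nat.prime_three⟩
  haveI : Fact (Nat.Prime 2) := ⟨Nat.prime_two⟩
  obtain ⟨⟨w, hw⟩, ho⟩ := exists_prime_orderOf_dvd_card' (G := N) 3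
    (by rw [D.h₂.normalizer]; exact Dvd.dvd.mul_right (by norm_num) _)
  have hn3 : ¬ 3 ∣ qq m + rr m + 1 := by
    have h1 : 3 ∣ qq m := dvd_pow_self 3 (Nat.succ_ne_zero _)
    have h2 : 3 ∣ rr m := dvd_pow_self 3 (Nat.succ_ne_zero _)
    omega
  have hwT : w ∉ D.T₂ := fun h => by
    have := Subgroup.orderOf_dvd_natCard _ h
    rw [← Subgroup.orderOf_mk w hw, ho, D.h₂.card] at this
    exact hn3 this
  haveI : (D.T₂.subgroupOf N).Normal := Subgroup.normal_in_normalizer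
  set p : N →* N ⧸ D.T₂.subgroupOf N := QuotientGroup.mk' _
  have hp : ∀ g : N, p g = 1 ↔ (g : RG K m) ∈ D.T₂ := fun g => by
    rw [← MonoidHom.mem_ker, QuotientGroup.ker_mk', Subgroup.mem_subgroupOf]
  have hi' : i⁻¹ = i := inv_eq_of_mul_eq_one_right hi2
  have hoi : orderOf (p ⟨i, hiN⟩) = 2 := orderOf_eq_prime
    (by rw [← map_pow, hp, pow_two]; show i * i ∈ D.T₂; rw [hi2]; exact one_mem _)
    (by rw [Ne, hp]; exact hiT)
  have how : orderOf (p ⟨w, hw⟩) = 3 := orderOf_eq_prime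
    (by rw [← map_pow, orderOf_dvd_iff_pow_eq_one.1 (dvd_of_eq ho), map_one])
    (by rw [Ne, hp]; exact hwT)
  have hcomm : Commute (p ⟨i, hiN⟩) (p ⟨w, hw⟩) := by
    have hmem : i * w * i⁻¹ * w⁻¹ ∈ D.T₂ := by
      haveI := D.h₂.cyc
      obtain ⟨a, ha, ha1⟩ : ∃ a ∈ D.T₂, a ≠ 1 := D.T₂.bot_or_exists_ne_one.resolve_left fun e => by
        have := D.h₂.card
        rw [e, Subgroup.card_bot] at this
        omega
      have hb : w⁻¹ * a * w ∈ D.T₂ := by
        have := hcc.conj_mem (inv_mem hw) ha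
        rwa [inv_inv] at this
      refine hcc.mem_of_commute ha ha1 (mul_inv_eq_iff_eq_mul.1 ?_)
      calc i * w * i⁻¹ * w⁻¹ * a * (i * w * i⁻¹ * w⁻¹)⁻¹
          = i * (w * (i⁻¹ * (w⁻¹ * a * w) * i) * w⁻¹) * i⁻¹ := by group
        _ = i * (w * (w⁻¹ * a * w)⁻¹ * w⁻¹) * i⁻¹ := by
            have := hinv _ hb
            rw [hi'] at this ⊢
            rw [this]
        _ = i * a⁻¹ * i⁻¹ := by group
        _ = a := by rw [hinv _ (inv_mem ha), inv_inv]
    show p ⟨i, hiN⟩ * p ⟨w, hw⟩ = p ⟨w, hw⟩ * p ⟨i, hiN⟩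
    rw [← mul_inv_eq_one, ← map_mul, ← map_mul, ← map_inv, ← map_mul, hp]
    simpa [mul_assoc] using hmem
  have ho6 : orderOf (p (⟨i, hiN⟩ * ⟨w, hw⟩)) = 6 := by
    rw [map_mul, hcomm.orderOf_mul_eq_mul_orderOf_of_coprime (by rw [hoi, how]; norm_num), hoi, how]
  refine ⟨i * w, ThreeCC.exists_frame_aux hcc (by norm_num) ?_ (mul_mem hiN hw) fun k h0 h6 hk => ?_⟩
  · have h := (D.T₂.subgroupOf N).card_mul_index
    rw [Nat.card_congr (Subgroup.subgroupOfEquivOfLe Subgroup.le_normalizer).toEquiv, D.h₂.card,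
      D.h₂.normalizer] at h
    exact Nat.eq_of_mul_eq_mul_left (show 0 < qq m + rr m + 1 by omega) (h.trans (mul_comm _ _))
  · have := (hp ((⟨i, hiN⟩ * ⟨w, hw⟩ : N) ^ k)).2 (by simpa using hk)
    rw [map_pow, ← orderOf_dvd_iff_pow_eq_one, ho6] at this
    have := Nat.le_of_dvd h0 this
    omega

set_option maxHeartbeats 800000 in
/-- Involutions, when `x` lies in the larger Hall torus. -/
theorem cover_involution_large (hm : 1 ≤ m) (D : Tori C) {x : RG K m} (hx : IsConj x x⁻¹)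
    (hxT : x ∈ D.T₂) (hx1 : x ≠ 1) : Cover x C.aG := by
  classical
  obtain ⟨u, hu⟩ := exists_frame C hm D
  obtain ⟨-, -, hn1, hnodd⟩ := tor_arith C hm
  have hq := qq_ge hm
  have hr := arith_r C hm
  obtain ⟨F⟩ := ThreeCC.exists_fam hu (by rw [D.h₂.card]; omega)
  have hF := F.hm
  rw [D.h₂.card] at hF
  have haT : ¬ ThreeCC.InConj D.T₂ C.aG := fun h => by
    have hd := hu.cc.orderOf_dvd h
    haveI : Fact (Nat.Prime 2) := ⟨Nat.prime_two⟩
    rw [orderOf_eq_prime ((pow_two _).trans C.aG_sq) C.aG_ne_one, D.h₂.card] at hd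
    exact Nat.not_even_iff_odd.2 hnodd (even_iff_two_dvd.2 hd)
  set E := F.rest.erase (triv (RG K m)) with hE
  have hErest : ∀ ψ ∈ E, ψ ∈ F.rest := fun ψ h => (Finset.mem_erase.1 h).2
  have hEirr : ∀ ψ ∈ E, ψ ∈ irrFinset (RG K m) := fun ψ h =>
    mem_irrFinset.2 (F.mem_rest.1 (hErest ψ h)).1
  -- degrees
  have hd : ∀ ψ ∈ E, ∃ d : ℕ, ψ 1 = d ∧ (NN m : ℝ) ≤ d := fun ψ h => by
    obtain ⟨d, -, e⟩ := IsIrrCharacter.exists_degree (mem_irrFinset.1 (hEirr ψ h))
    have := deg_ge C hm ψ (hEirr ψ h) (Finset.mem_erase.1 h).1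
    rw [e, Complex.natCast_re] at this
    exact ⟨d, e, this⟩
  choose! deg hdeg hdeg' using hd
  obtain ⟨d0, hd0, hd0'⟩ : ∃ d0 : ℕ, F.com 1 = d0 ∧ (NN m : ℝ) ≤ d0 := by
    have q0 : Fin F.m := ⟨0, by linarith [F.two_le]⟩
    obtain ⟨d, -, e⟩ := IsIrrCharacter.exists_degree (F.irr q0)
    refine ⟨d, by rw [← F.com_one q0, e], ?_⟩
    have := deg_ge C hm _ (mem_irrFinset.2 (F.irr q0)) fun h => by
      have := (F.mem_rest.1 F.one_mem_rest).2 q0
      exact this h.symm
    rwa [e, Complex.natCast_re] at this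
  have hNpos : (0 : ℝ) < NN m := by exact_mod_cast Nat.succ_pos _
  have hd0pos : (0 : ℝ) < d0 := hNpos.trans_le hd0'
  -- the sum at an involution
  set M : ℝ := ∑ q, Complex.normSq (F.θ q x) with hM
  have hM0 : 0 ≤ M := Finset.sum_nonneg fun q _ => Complex.normSq_nonneg _
  set w : ℝ := (F.com C.aG).re with hw
  have hsq : (sq x C.aG).re =
      1 + ∑ ψ ∈ E, (F.cst ψ : ℝ) ^ 2 * (ψ C.aG).re / deg ψ + M * w / d0 := by
    rw [sq, F.sum_split, ← Finset.add_sum_erase F.rest _ F.one_mem_rest, Complex.add_re,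
      Complex.add_re, Complex.re_sum, Complex.re_sum, hM, Finset.sum_mul, Finset.sum_div]
    have e1 : ∀ q, (F.θ q x * conj (F.θ q x) * F.θ q C.aG / F.θ q 1).re =
        Complex.normSq (F.θ q x) * w / d0 := fun q => by
      rw [F.com_one q, hd0, F.com_eq haT q, Complex.mul_conj, Complex.div_natCast_re,
        Complex.re_ofReal_mul, hw]
    have e2 : ∀ ψ ∈ E, (ψ x * conj (ψ x) * ψ C.aG / ψ 1).re =
        (F.cst ψ : ℝ) ^ 2 * (ψ C.aG).re / deg ψ := fun ψ h => by
      rw [hdeg ψ h, F.cst_spec (hErest ψ h) hxT hx1, Complex.mul_conj, Complex.div_natCast_re,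
        Complex.re_ofReal_mul, Complex.normSq_intCast, pow_two]
    rw [Finset.sum_congr rfl fun q _ => e1 q, Finset.sum_congr rfl e2]
    simp [triv]
    ring
  -- the column at `x`
  have hcol : M + ∑ ψ ∈ E, (F.cst ψ : ℝ) ^ 2 = (qq m + rr m : ℕ) := by
    have h := sum_irr_mul_conj x x
    rw [if_pos (IsConj.refl x), hu.cc.cent x hxT hx1, D.h₂.card, F.sum_split,
      ← Finset.add_sum_erase F.rest _ F.one_mem_rest] at h
    have h' := congrArg Complex.re h
    simp only [Complex.add_re, Complex.re_sum, Complex.mul_conj, Complex.ofReal_re,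
      Complex.natCast_re] at h'
    rw [Finset.sum_congr rfl fun ψ hψ => show Complex.normSq (ψ x) = (F.cst ψ : ℝ) ^ 2 by
      rw [F.cst_spec (hErest ψ hψ) hxT hx1, Complex.normSq_intCast, pow_two]] at h'
    simp only [map_one, Nat.cast_add, Nat.cast_one] at h' ⊢
    linarith
  have hQ : ∑ ψ ∈ E, F.cst ψ ^ 2 + (F.m * F.e ^ 2 - 2 * F.ε * F.e) = 5 := by
    have h := F.budget hu
    rw [← Finset.add_sum_erase F.rest _ F.one_mem_rest, F.cst_one] at h
    push_cast at h
    linarith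
  -- the inequalities
  set n : ℝ := ((qq m + rr m + 1 : ℕ) : ℝ) with hn
  have hTsum : ∀ (χ : RG K m → ℂ) (c : ℂ), (∀ a ∈ D.T₂, a ≠ 1 → χ a = c) →
      ∑ r : D.T₂, χ r = χ 1 + ((qq m + rr m : ℕ) : ℂ) * c := fun χ c h => by
    rw [← Finset.add_sum_erase _ _ (Finset.mem_univ (1 : D.T₂)), OneMemClass.coe_one,
      Finset.sum_congr rfl fun (r : D.T₂) hr => h r r.2 fun e => (Finset.mem_erase.1 hr).1 (Subtype.ext e),
      Finset.sum_const, Finset.card_erase_of_mem (Finset.mem_univ _), Finset.card_univ,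
      ← Nat.card_eq_fintype_card, D.h₂.card, Nat.add_sub_cancel, nsmul_eq_mul]
  have hineq : ∀ ψ ∈ E, 0 ≤ n * (ψ C.aG).re + deg ψ + (n - 1) * F.cst ψ := fun ψ h => by
    have h1 := sum_irr_nonneg C hm D (hEirr ψ h)
    rw [hTsum ψ (F.cst ψ) (fun a ha ha1 => F.cst_spec (hErest ψ h) ha ha1), hdeg ψ h,
      Complex.add_re, Complex.natCast_re, ← Complex.ofReal_natCast, Complex.re_ofReal_mul,
      Complex.intCast_re, ← hn] at h1
    have : ((qq m + rr m : ℕ) : ℝ) = n - 1 := by rw [hn, Nat.cast_add _ 1, Nat.cast_one]; ring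
    rw [this] at h1
    linarith
  have hθineq : 0 ≤ n * w + d0 + 6 * ((F.m : ℝ) * F.e - F.ε) := by
    have h1 := Finset.sum_nonneg (s := Finset.univ)
      fun q _ => sum_irr_nonneg C hm D (mem_irrFinset.2 (F.irr q))
    rw [Finset.sum_add_distrib, ← Finset.mul_sum, ← Complex.re_sum,
      ← Complex.re_sum, Finset.sum_comm] at h1
    rw [Finset.sum_congr rfl fun q _ => F.com_eq haT q, Finset.sum_const, Finset.card_univ,
      Fintype.card_fin, hTsum (fun g => ∑ q, F.θ q g) ((F.m : ℂ) * F.e - F.ε)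
        (fun a ha ha1 => F.sum_θ ha ha1), Finset.sum_congr rfl fun q _ => (F.com_one q).trans hd0,
      Finset.sum_const, Finset.card_univ, Fintype.card_fin] at h1
    simp only [nsmul_eq_mul, Complex.mul_re, Complex.natCast_re, Complex.natCast_im, zero_mul,
      sub_zero, Complex.add_re, Complex.sub_re, Complex.intCast_re, Complex.intCast_im, mul_zero,
      ← hw, ← hn] at h1
    have hF' : ((qq m + rr m : ℕ) : ℝ) = (F.m : ℝ) * 6 := by
      exact_mod_cast (show qq m + rr m = F.m * 6 by omega)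
    rw [hF'] at h1
    have hm0 : (0 : ℝ) < F.m := by exact_mod_cast (show 0 < F.m by linarith [F.two_le])
    by_contra hc
    nlinarith [mul_lt_mul_of_pos_left (not_le.1 hc) hm0]
  -- reduce to a positive value
  refine cover_of_sq_ne hx fun h0 => ?_
  rw [h0, Complex.zero_re] at hsq
  have hnbig : (37 : ℝ) ≤ n := by
    have : (37 : ℕ) ≤ qq m + rr m + 1 := by omega
    rw [hn]; exact_mod_cast this
  have hkey : 1 ≤ (n - 1) * ∑ ψ ∈ E, (F.cst ψ : ℝ) ^ 3 / deg ψ +
      6 * M * ((F.m : ℝ) * F.e - F.ε) / d0 := by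
    have h1 : ∀ ψ ∈ E, -((F.cst ψ : ℝ) ^ 2) - (n - 1) * ((F.cst ψ : ℝ) ^ 3 / deg ψ) ≤
        n * ((F.cst ψ : ℝ) ^ 2 * (ψ C.aG).re / deg ψ) := fun ψ h => by
      have hpos : (0 : ℝ) < deg ψ := hNpos.trans_le (hdeg' ψ h)
      field_simp
      nlinarith [mul_nonneg (sq_nonneg ((F.cst ψ : ℝ))) (hineq ψ h)]
    have h2 : -M - 6 * M * ((F.m : ℝ) * F.e - F.ε) / d0 ≤ n * (M * w / d0) := by
      field_simp
      nlinarith [mul_nonneg hM0 hθineq]
    have h3 := Finset.sum_le_sum h1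
    rw [Finset.sum_sub_distrib, Finset.sum_neg_distrib, ← Finset.mul_sum, ← Finset.mul_sum] at h3
    have h4 : n * (1 + ∑ ψ ∈ E, (F.cst ψ : ℝ) ^ 2 * (ψ C.aG).re / deg ψ + M * w / d0) = 0 := by
      rw [← hsq, mul_zero]
    have : ((qq m + rr m : ℕ) : ℝ) = n - 1 := by rw [hn, Nat.cast_add _ 1, Nat.cast_one]; ring
    rw [this] at hcol
    linarith
  have hm6 : 6 ≤ F.m := by omega
  have hQ0 : 0 ≤ ∑ ψ ∈ E, F.cst ψ ^ 2 := Finset.sum_nonneg fun ψ _ => sq_nonneg _
  have hε2 : F.ε * F.ε = 1 := by rcases F.hε with e | e <;> rw [e] <;> norm_num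
  have hN := NN_real C hm
  have hr3 : 3 * (rr m : ℝ) ≤ qq m := by exact_mod_cast three_rr_le C hm
  have hq' : (27 : ℝ) ≤ qq m := by exact_mod_cast hq
  rcases eq_or_ne F.e 0 with he | he
  · -- no shift
    have hQ5 : ∑ ψ ∈ E, F.cst ψ ^ 2 = 5 := by rw [he] at hQ; linarith
    have hc2 : ∀ ψ ∈ E, |(F.cst ψ : ℝ) ^ 3 / deg ψ| ≤ 2 * (F.cst ψ : ℝ) ^ 2 / NN m := fun ψ h => by
      have h1 : F.cst ψ ^ 2 ≤ 5 :=
        hQ5 ▸ Finset.single_le_sum (f := fun ψ => F.cst ψ ^ 2) (fun ψ _ => sq_nonneg _) h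
      have h2 : |(F.cst ψ : ℝ)| ≤ 2 := by
        have : |F.cst ψ| ≤ 2 := abs_le.2 ⟨by nlinarith, by nlinarith⟩
        exact_mod_cast this
      rw [abs_div, Nat.abs_cast, abs_pow]
      refine div_le_div₀ (by positivity) ?_ hNpos (hdeg' ψ h)
      rw [← sq_abs (F.cst ψ : ℝ)]
      nlinarith [mul_le_mul_of_nonneg_right h2 (sq_nonneg |(F.cst ψ : ℝ)|)]
    have h3 : ∑ ψ ∈ E, (F.cst ψ : ℝ) ^ 3 / deg ψ ≤ 10 / NN m := by
      refine (Finset.sum_le_sum fun ψ h => (le_abs_self _).trans (hc2 ψ h)).trans ?_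
      rw [← Finset.sum_div, ← Finset.mul_sum, show ∑ ψ ∈ E, (F.cst ψ : ℝ) ^ 2 = 5 by exact_mod_cast hQ5]
      norm_num
    have h4 : 6 * M * ((F.m : ℝ) * F.e - F.ε) / d0 ≤ 6 * n / NN m := by
      have hMn : M ≤ n := by
        have : ∑ ψ ∈ E, (F.cst ψ : ℝ) ^ 2 = 5 := by exact_mod_cast hQ5
        have e : ((qq m + rr m : ℕ) : ℝ) = n - 1 := by rw [hn, Nat.cast_add _ 1, Nat.cast_one]; ring
        linarith
      have : 6 * M * ((F.m : ℝ) * F.e - F.ε) / d0 ≤ 6 * M / d0 := by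
        refine div_le_div_of_nonneg_right ?_ hd0pos.le
        rcases F.hε with e | e <;> rw [he, e] <;> push_cast <;> nlinarith
      refine this.trans ?_
      gcongr
    have h5 : (n - 1) * ∑ ψ ∈ E, (F.cst ψ : ℝ) ^ 3 / deg ψ ≤ (n - 1) * (10 / NN m) :=
      mul_le_mul_of_nonneg_left h3 (by linarith)
    have h6 : (n - 1) * (10 / NN m) + 6 * n / NN m < 1 := by
      rw [mul_div_assoc', ← add_div, div_lt_one hNpos, hN, hn]
      push_cast [Nat.cast_add]
      rw [show ((3 : ℝ) ^ (2 * m + 1)) = qq m by push_cast [qq]; rfl,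
        show ((3 : ℝ) ^ (m + 1)) = rr m by push_cast [rr]; rfl]
      nlinarith
    linarith
  · -- a shift
    have he1 : F.ε * F.e = 1 ∧ F.e ^ 2 = 1 := by
      have h1 : (6 : ℤ) * F.e ^ 2 ≤ F.m * F.e ^ 2 :=
        mul_le_mul_of_nonneg_right (by exact_mod_cast hm6) (sq_nonneg _)
      have h2 : 1 ≤ F.e ∨ F.e ≤ -1 := by omega
      rcases F.hε with e | e <;> rw [e] at hQ ⊢ <;> rcases h2 with h2 | h2 <;>
        · have : F.e = 1 ∨ F.e = -1 := by
            rcases le_or_gt (F.e ^ 2) 1 with h | h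
            · rcases sq_eq_one_iff.1 (le_antisymm h (by nlinarith)) with h' | h'
              · exact Or.inl h'
              · exact Or.inr h'
            · exfalso; nlinarith
          rcases this with e' | e' <;> rw [e'] at hQ ⊢ <;> norm_num at hQ ⊢ <;> omega
    rw [he1.2, mul_one, mul_assoc, he1.1] at hQ
    have hm7 : F.m ≤ 7 := by omega
    have hm1 : m = 1 := by
      by_contra hne
      have : 3 ^ 5 ≤ qq m := Nat.pow_le_pow_right (by norm_num) (by omega)
      omega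
    have hn37 : qq m + rr m + 1 = 37 := by subst hm1; norm_num [qq, rr]
    have hn37' : n = 37 := by rw [hn]; exact_mod_cast hn37
    have hFm : F.m = 6 := by omega
    have hNN : (703 : ℝ) = NN m := by subst hm1; norm_num [NN, qq]
    rw [hFm] at hQ
    have hQ1 : ∑ ψ ∈ E, F.cst ψ ^ 2 = 1 := by push_cast at hQ; linarith
    -- one further character
    obtain ⟨ψ, hψ, hc⟩ : ∃ ψ ∈ E, F.cst ψ ≠ 0 := by
      by_contra! hall
      rw [Finset.sum_eq_zero fun ψ h => by rw [hall ψ h, zero_pow two_ne_zero]] at hQ1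
      exact zero_ne_one hQ1
    have hsplit : F.cst ψ ^ 2 = 1 ∧ ∀ φ ∈ E, φ ≠ ψ → F.cst φ = 0 := by
      have h := Finset.add_sum_erase E (fun φ => F.cst φ ^ 2) hψ
      rw [hQ1] at h
      have h1 : 1 ≤ F.cst ψ ^ 2 := by
        have := sq_pos_of_ne_zero hc; omega
      have h2 : 0 ≤ ∑ φ ∈ E.erase ψ, F.cst φ ^ 2 := Finset.sum_nonneg fun φ _ => sq_nonneg _
      refine ⟨by linarith, fun φ hφ hne => ?_⟩
      have h3 : F.cst φ ^ 2 ≤ ∑ φ ∈ E.erase ψ, F.cst φ ^ 2 :=
        Finset.single_le_sum (f := fun φ => F.cst φ ^ 2) (fun φ _ => sq_nonneg _)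
          (Finset.mem_erase.2 ⟨hne, hφ⟩)
      exact (pow_eq_zero_iff two_ne_zero).1 (le_antisymm (by linarith) (sq_nonneg _))
    have hone : ∀ f : (RG K m → ℂ) → ℝ, (∀ φ, F.cst φ = 0 → f φ = 0) →
        ∑ φ ∈ E, f φ = f ψ := fun f hf => Finset.sum_eq_single ψ
      (fun φ hφ hne => hf φ (hsplit.2 φ hφ hne)) (fun h => absurd hψ h)
    have horth : ∀ g : RG K m, ¬ ThreeCC.InConj D.T₂ g ∨ g = 1 →
        1 + (F.cst ψ : ℝ) * (ψ g).re + ((F.m : ℝ) * F.e - F.ε) * (F.com g).re = 0 := fun g hg => by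
      have h := congrArg Complex.re (F.orth hg)
      rw [Complex.add_re, Complex.re_sum, ← Finset.add_sum_erase F.rest _ F.one_mem_rest,
        hone (fun φ => ((F.cst φ : ℂ) * φ g).re) (fun φ hφ => by simp [hφ]), F.cst_one] at h
      simpa [Complex.mul_re] using h
    have heε : F.e = F.ε := by
      calc F.e = F.ε * F.ε * F.e := by rw [hε2, one_mul]
        _ = F.ε := by rw [mul_assoc, he1.1, mul_one]
    rw [hone (fun φ => (F.cst φ : ℝ) ^ 3 / deg φ) (fun φ hφ => by simp [hφ]), hn37', hFm, heε]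
      at hkey
    have hcR : (F.cst ψ : ℝ) ^ 2 = 1 := by exact_mod_cast hsplit.1
    rw [hone (fun φ => (F.cst φ : ℝ) ^ 2 * (φ C.aG).re / deg φ) (fun φ hφ => by simp [hφ]),
      hcR, one_mul] at hsq
    have hQR : ∑ φ ∈ E, (F.cst φ : ℝ) ^ 2 = 1 := by exact_mod_cast hQ1
    have hM35 : M = 35 := by
      rw [hQR, show ((qq m + rr m : ℕ) : ℝ) = 36 by exact_mod_cast (show qq m + rr m = 36 by omega)]
        at hcol
      linarith
    have hdψ : (703 : ℝ) ≤ deg ψ := hNN.le.trans (hdeg' ψ hψ)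
    have hd703 : (703 : ℝ) ≤ d0 := hNN.le.trans hd0'
    rcases F.hε with e | e
    · -- positive shift
      rw [e] at heε
      have o1 := horth 1 (Or.inr rfl)
      have o2 := horth C.aG (Or.inl haT)
      rw [hd0, hdeg ψ hψ, Complex.natCast_re, Complex.natCast_re, hFm, heε, e] at o1
      rw [← hw, hFm, heε, e] at o2
      norm_num at o1 o2
      have hcneg : (F.cst ψ : ℝ) = -1 := by
        rcases sq_eq_one_iff.1 hcR with h | h
        · rw [h] at o1; linarith
        · exact h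
      rw [hcneg] at o1 o2
      have hψi := hineq ψ hψ
      rw [hn37', hcneg] at hψi
      have e1 : (deg ψ : ℝ) = 1 + 5 * d0 := by linarith
      have e2 : (ψ C.aG).re = 1 + 5 * w := by linarith
      rw [hM35, e1, e2] at hsq
      field_simp at hsq
      nlinarith [hψi, e1, e2]
    · -- negative shift
      have hc3 : (F.cst ψ : ℝ) ^ 3 ≤ 1 := by
        rcases sq_eq_one_iff.1 hcR with h | h <;> rw [h] <;> norm_num
      have h5 : ((37 : ℝ) - 1) * ((F.cst ψ : ℝ) ^ 3 / deg ψ) ≤ 36 / 703 := by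
        rw [show ((37 : ℝ) - 1) * ((F.cst ψ : ℝ) ^ 3 / deg ψ) = 36 * (F.cst ψ : ℝ) ^ 3 / deg ψ by ring]
        refine (div_le_div_of_nonneg_right (show 36 * (F.cst ψ : ℝ) ^ 3 ≤ 36 by linarith)
          (by linarith)).trans ?_
        gcongr
      have h6 : 6 * M * (((6 : ℕ) : ℝ) * (F.ε : ℝ) - F.ε) / d0 ≤ 0 := by
        refine div_nonpos_of_nonpos_of_nonneg ?_ hd0pos.le
        rw [e]; push_cast; nlinarith
      linarith

end CfsgLib.ReeSquare
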