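import Cfsg.Agent.ReeSquare.ClassProd
import Cfsg.Agent.ReeSquare.Cent
import Cfsg.Agent.Chev.ReeMinDeg

/-!
Elements of order different from two as products of two conjugates.
-/

set_option autoImplicit false
set_option linter.style.haveILetI false
set_option linter.unusedSectionVars false

namespace CfsgLib.ReeSquare

open CfsgLib.Chev.G2Tw
open CfsgLib.Chev.G2Tw.Ctx (qq NN qq_ge)
open Cfsg.Lie CfsgLib.Char
open scoped ComplexConjugate

variable {K : Type*} [Field K] [Fintype K] {m : ℕ} (C : Ctx K m)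

/-- The two Hall tori. -/
structure Tori [Fintype (RG K m)] where
  T₁ : Subgroup (RG K m)
  T₂ : Subgroup (RG K m)
  h₁ : C.IsTor T₁ (qq m - rr m + 1)
  h₂ : C.IsTor T₂ (qq m + rr m + 1)
  hor : ∀ g : RG K m, orderOf g ∣ NN m →
    orderOf g ∣ qq m - rr m + 1 ∨ orderOf g ∣ qq m + rr m + 1

include C

theorem exists_tori (hm : 1 ≤ m) [Fintype (RG K m)] : Nonempty (Tori C) := by
  obtain ⟨T₁, T₂, h₁, h₂, -, hor⟩ := C.two_classes hm
  exact ⟨⟨T₁, T₂, h₁, h₂, hor⟩⟩

theorem perfect (hm : 1 ≤ m) : commutator (RG K m) = ⊤ := C.comm_top hm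

variable [Fintype (RG K m)]

/-- Nontrivial characters have large degree. -/
theorem deg_ge (hm : 1 ≤ m) : ∀ χ ∈ irrFinset (RG K m), χ ≠ triv (RG K m) →
    (NN m : ℝ) ≤ (χ 1).re := by
  intro χ hχ hne
  have hirr := mem_irrFinset.1 hχ
  obtain ⟨k, hk0, hk⟩ := IsIrrCharacter.exists_degree hirr
  obtain ⟨n, ρ, hρ, rfl⟩ := id hirr
  have hn : (n : ℂ) = k := by rw [← hk, ρ.char_one, Module.finrank_fin_fun]
  have hn' : n = k := by exact_mod_cast hn
  subst hn'
  rw [hk, Complex.natCast_re]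
  rcases Nat.lt_or_ge n 2 with h | h
  · exact absurd (eq_triv_of_degree_one (perfect C hm) hirr (by
      rw [hk, show n = 1 by omega, Nat.cast_one])) hne
  · have := C.degree_bound hm ρ hρ (by rwa [Module.finrank_fin_fun])
    rw [Module.finrank_fin_fun] at this
    exact_mod_cast this

theorem three_rr_le (hm : 1 ≤ m) : 3 * rr m ≤ qq m :=
  calc 3 * rr m = 3 ^ (m + 2) := (pow_succ' 3 (m + 1)).symm
    _ ≤ qq m := Nat.pow_le_pow_right (by norm_num) (by omega)

theorem card_centralizer_x (hm : 1 ≤ m) (D : Tori C) {x : RG K m} (h2 : 2 < orderOf x)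
    (h3 : ¬ 3 ∣ orderOf x) :
    Nat.card (Subgroup.centralizer ({x} : Set (RG K m))) ≤ qq m + rr m + 1 := by
  rcases card_centralizer_semisimple C hm D.h₁ D.h₂ D.hor h2 h3 with h | ⟨-, -, h⟩ <;> omega

theorem NN_real (hm : 1 ≤ m) : (NN m : ℝ) = (qq m : ℝ) ^ 2 - qq m + 1 :=
  Ctx.NN_cast (m := m) ℝ

/-- Elements of order other than two and three. -/
theorem cover_generic (hm : 1 ≤ m) (D : Tori C) {x : RG K m} (h2 : 2 < orderOf x)
    (h3 : ¬ 3 ∣ orderOf x) {g : RG K m} (hg : g ≠ 1) (hg2 : orderOf g ≠ 2) (hg3 : orderOf g ≠ 3) :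
    Cover x g := by
  refine cover_of_sq_ne (hasInverter C hm D.h₁ D.h₂ D.hor h2 h3).real
    (sq_ne_zero x (B := rr m) (d := NN m) (by exact_mod_cast NN_pos' C) (Nat.cast_nonneg _)
      ?_ (deg_ge C hm) ?_)
  · have hc := card_centralizer_le C hm D.h₁ D.h₂ D.hor hg hg2 hg3
    rw [show ((rr m : ℕ) : ℝ) ^ 2 = ((3 * qq m : ℕ) : ℝ) by rw [← (arith_r C hm).1]; push_cast; ring]
    exact_mod_cast hc
  · have hx : (Nat.card (Subgroup.centralizer ({x} : Set (RG K m))) : ℝ) ≤ qq m + rr m + 1 := by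
      exact_mod_cast card_centralizer_x C hm D h2 h3
    have hr2 : (rr m : ℝ) ^ 2 = 3 * qq m := by exact_mod_cast (arith_r C hm).1
    have hr3 : 3 * (rr m : ℝ) ≤ qq m := by exact_mod_cast three_rr_le C hm
    have hq : (27 : ℝ) ≤ qq m := by exact_mod_cast qq_ge hm
    have hr0 : (0 : ℝ) ≤ rr m := Nat.cast_nonneg _
    rw [NN_real C hm]
    nlinarith [mul_le_mul_of_nonneg_right hx hr0, mul_le_mul_of_nonneg_right hr3
      (show (0 : ℝ) ≤ qq m by linarith)]
where
  NN_pos' (C : Ctx K m) : 0 < NN m := Nat.succ_pos _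

/-! ### The last level of `U` -/

theorem long_involution (j : K) :
    (C.aG * C.uG 0 0 j) * (C.aG * C.uG 0 0 j) = 1 ∧ C.aG * C.uG 0 0 j ≠ 1 := by
  have ha : C.aG⁻¹ = C.aG := inv_eq_of_mul_eq_one_right C.aG_sq
  have h := C.aG_conj_uG 0 0 j
  rw [neg_zero, ha] at h
  refine ⟨?_, fun e => C.neg_one_ne_one ?_⟩
  · rw [← mul_assoc, h, C.uG_tail_mul, add_zero, neg_add_cancel, C.uG_zero]
  · exact (C.uh_unique (u := 1) (s := -1) (u' := (C.uG 0 0 j)⁻¹) (s' := 1) (one_mem _)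
      (inv_mem (C.uG_mem _ _ _)) (by
        rw [map_one, mul_one, one_mul]
        exact eq_inv_of_mul_eq_one_left e)).2

theorem long_involution_mul (j k : K) :
    (C.aG * C.uG 0 0 k) * (C.aG * C.uG 0 0 j) = C.uG 0 0 (j - k) := by
  have ha : C.aG⁻¹ = C.aG := inv_eq_of_mul_eq_one_right C.aG_sq
  have h := C.aG_conj_uG 0 0 k
  rw [neg_zero, ha] at h
  rw [← mul_assoc, h, C.uG_tail_mul, add_zero, neg_add_eq_sub]

/-- Two of many involutions inverting conjugates of `x` give a long root element. -/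
theorem exists_long (hm : 1 ≤ m) {x : RG K m} (h2 : 2 < orderOf x) (hx : HasInverter x) :
    ∃ v : K, v ≠ 0 ∧ Cover x (C.uG 0 0 v) := by
  classical
  obtain ⟨i, hi2, hi1, hinv⟩ := id hx
  haveI : Fact (Nat.Prime 2) := ⟨Nat.prime_two⟩
  let Inv := {t : RG K m // orderOf t = 2}
  let S : RG K m → Type _ := fun t => {y : RG K m // IsConj x y ∧ t * y * t⁻¹ = y⁻¹}
  have hmem : ∀ {t : RG K m}, t * t = 1 → t ≠ 1 → orderOf t = 2 := fun h h' =>
    orderOf_eq_prime ((pow_two _).trans h) h'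
  have hsq : x * x ≠ 1 := fun e => by
    have := Nat.le_of_dvd (by norm_num) (orderOf_dvd_of_pow_eq_one ((pow_two x).trans e))
    omega
  have hsqy : ∀ {y : RG K m}, IsConj x y → y * y ≠ 1 := fun {y} h e => by
    obtain ⟨c, rfl⟩ := isConj_iff.1 h
    rw [show c * x * c⁻¹ * (c * x * c⁻¹) = c * (x * x) * c⁻¹ by group, conj_eq_one_iff] at e
    exact hsq e
  -- all involutions invert equally many conjugates
  have hk : ∀ t : Inv, Nat.card (S t.1) = Nat.card (S C.aG) := fun ⟨t, ht⟩ => by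
    obtain ⟨c, hc⟩ := isConj_iff.1 (C.isConj_aG hm (g := t)
      (by rw [← pow_two, ← ht, pow_orderOf_eq_one]) (fun e => by rw [e, orderOf_one] at ht; omega)).symm
    refine Nat.card_congr (Equiv.subtypeEquiv (MulAut.conj c).toEquiv fun y => ?_)
    show IsConj x y ∧ t * y * t⁻¹ = y⁻¹ ↔ IsConj x (MulAut.conj c y) ∧
      C.aG * MulAut.conj c y * C.aG⁻¹ = (MulAut.conj c y)⁻¹
    have hy : IsConj y (MulAut.conj c y) := isConj_iff.2 ⟨c, rfl⟩
    refine and_congr ⟨fun h => h.trans hy, fun h => h.trans hy.symm⟩ ?_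
    rw [← hc, ← MulAut.conj_apply c t, ← map_inv, ← map_inv, ← map_mul, ← map_mul,
      (MulAut.conj c).injective.eq_iff]
  -- every conjugate is inverted by many involutions
  let Cl := {y : RG K m // IsConj x y}
  choose g hg using fun y : Cl => isConj_iff.1 y.2
  let ι : Cl × Subgroup.centralizer ({x} : Set (RG K m)) → Σ t : Inv, S t.1 := fun p =>
    ⟨⟨g p.1 * (i * p.2) * (g p.1)⁻¹, by
      rw [C.orderOf_conj]
      refine hmem ?_ fun e => hsq ?_
      · have h := hinv p.2 (Subgroup.mem_centralizer_singleton_iff.1 p.2.2)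
        rw [inv_eq_of_mul_eq_one_right hi2] at h
        rw [← mul_assoc, h, inv_mul_cancel]
      · have hc := Subgroup.mem_centralizer_singleton_iff.1 p.2.2
        have h := hinv x rfl
        rw [show (i : RG K m) = (p.2 : RG K m)⁻¹ from eq_inv_of_mul_eq_one_left e, inv_inv] at h
        rw [show ((p.2 : RG K m))⁻¹ * x * p.2 = x by
          rw [mul_assoc, ← hc, inv_mul_cancel_left]] at h
        nth_rw 1 [h]
        rw [inv_mul_cancel]⟩,
    ⟨p.1.1, p.1.2, by
      have hc := Subgroup.mem_centralizer_singleton_iff.1 p.2.2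
      rw [← hg p.1]
      calc g p.1 * (i * p.2) * (g p.1)⁻¹ * (g p.1 * x * (g p.1)⁻¹) *
            (g p.1 * (i * p.2) * (g p.1)⁻¹)⁻¹
          = g p.1 * (i * (p.2 * x) * (p.2 : RG K m)⁻¹ * i⁻¹) * (g p.1)⁻¹ := by group
        _ = g p.1 * (i * x * i⁻¹) * (g p.1)⁻¹ := by rw [hc]; group
        _ = _ := by rw [hinv x rfl]; group⟩⟩
  have hι : Function.Injective ι := by
    intro p p' h
    have h1 := congrArg (fun z : Σ t : Inv, S t.1 => (z.1.1, z.2.1)) h
    simp only [ι, Prod.mk.injEq] at h1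
    have e : p.1 = p'.1 := Subtype.ext h1.2
    rw [e, mul_left_inj, mul_right_inj, mul_right_inj] at h1
    exact Prod.ext e (Subtype.ext h1.1)
  have hge : Nat.card (RG K m) ≤ Nat.card Inv * Nat.card (S C.aG) := by
    have h := Nat.card_le_card_of_injective ι hι
    rw [Nat.card_prod, card_conj_class_mul_card_centralizer, Nat.card_sigma,
      Finset.sum_congr rfl fun t _ => hk t, Finset.sum_const, Finset.card_univ, smul_eq_mul,
      ← Nat.card_eq_fintype_card] at h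
    exact h
  -- the pigeonhole
  let f : (Σ j : K, S (C.aG * C.uG 0 0 j)) → Inv := fun p =>
    ⟨C.aG * C.uG 0 0 p.1 * p.2.1, by
      obtain ⟨ht2, ht1⟩ := long_involution C p.1
      have h : ∀ y : RG K m, C.aG * C.uG 0 0 p.1 * y * (C.aG * C.uG 0 0 p.1)⁻¹ = y⁻¹ →
          C.aG * C.uG 0 0 p.1 * y * (C.aG * C.uG 0 0 p.1) = y⁻¹ := fun y h => by
        rwa [inv_eq_of_mul_eq_one_right ht2] at h
      refine hmem ?_ fun e => hsqy p.2.2.1 ?_
      · rw [← mul_assoc, h _ p.2.2.2, inv_mul_cancel]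
      · have hy : p.2.1 = C.aG * C.uG 0 0 p.1 :=
          (eq_inv_of_mul_eq_one_right e).trans (inv_eq_of_mul_eq_one_right ht2)
        exact (congrArg (fun z => z * z) hy).trans ht2⟩
  have hnot : ¬ Function.Injective f := by
    intro hf
    have h := Nat.card_le_card_of_injective f hf
    rw [Nat.card_sigma, Finset.sum_congr rfl fun j _ => hk ⟨_, hmem (long_involution C j).1
      (long_involution C j).2⟩, Finset.sum_const, Finset.card_univ, smul_eq_mul, C.hK] at h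
    have hn : Nat.card Inv = qq m ^ 2 * NN m := C.card_involutions hm
    rw [hn] at h hge
    rw [C.card_RG''] at hge
    have hq := qq_ge hm
    generalize Nat.card (S C.aG) = k at h hge
    have h2q : qq m * (qq m ^ 3 * (qq m - 1) * ((qq m + 1) * NN m)) ≤
        qq m ^ 2 * NN m * (qq m ^ 2 * NN m) :=
      calc qq m * (qq m ^ 3 * (qq m - 1) * ((qq m + 1) * NN m))
          ≤ qq m * (qq m ^ 2 * NN m * k) := Nat.mul_le_mul_left _ hge
        _ = qq m ^ 2 * NN m * (qq m * k) := by ring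
        _ ≤ _ := Nat.mul_le_mul_left _ h
    have hpos : 0 < qq m ^ 4 * NN m := Nat.mul_pos (pow_pos (by omega) 4) (Nat.succ_pos _)
    have h3 : (qq m - 1) * (qq m + 1) ≤ NN m := Nat.le_of_mul_le_mul_left (by
      calc qq m ^ 4 * NN m * ((qq m - 1) * (qq m + 1))
          = qq m * (qq m ^ 3 * (qq m - 1) * ((qq m + 1) * NN m)) := by ring
        _ ≤ _ := h2q
        _ = qq m ^ 4 * NN m * NN m := by ring) hpos
    have hle : qq m ≤ qq m ^ 2 := Nat.le_self_pow two_ne_zero _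
    have e : (qq m - 1) * (qq m + 1) + 1 = qq m ^ 2 := by
      zify [show 1 ≤ qq m by omega]; ring
    simp only [NN] at h3
    omega
  simp only [Function.Injective, not_forall] at hnot
  obtain ⟨⟨j, y, hy, hyi⟩, ⟨k, y', hy', hyi'⟩, e, hne⟩ := hnot
  have e' : C.aG * C.uG 0 0 j * y = C.aG * C.uG 0 0 k * y' := congrArg Subtype.val e
  have hjk : j ≠ k := by
    rintro rfl
    exact hne (by rw [show (⟨y, hy, hyi⟩ : S (C.aG * C.uG 0 0 j)) = ⟨y', hy', hyi'⟩ from
      Subtype.ext (mul_left_cancel e')])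
  refine ⟨j - k, sub_ne_zero.2 hjk, ?_⟩
  rw [show C.uG 0 0 (j - k) = y' * y⁻¹ from ?_]
  · exact cover_of_mul_inv hx.real hy' hy
  rw [← long_involution_mul C, eq_mul_inv_iff_mul_eq, mul_assoc, e', ← mul_assoc,
    (long_involution C k).1, one_mul]

/-- The long root elements form one class. -/
theorem cover_long (hm : 1 ≤ m) {x : RG K m} (h2 : 2 < orderOf x) (hx : HasInverter x) {v : K}
    (hv : v ≠ 0) : Cover x (C.uG 0 0 v) := by
  obtain ⟨v₀, hv₀, h⟩ := exists_long C hm h2 hx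
  obtain ⟨s₁, s₂, -, -, e⟩ := C.tG_conj_uG (Units.mk0 (v / v₀) (div_ne_zero hv hv₀)) 0 0 v₀
  have h' := h.conj (C.tG (Units.mk0 (v / v₀) (div_ne_zero hv hv₀)))
  rwa [e, mul_zero, mul_zero, Units.val_mk0, div_mul_cancel₀ v hv₀] at h'

/-! ### The other elements of order three -/

theorem exists_scale (hm : 1 ≤ m) (a : Kˣ) :
    ∃ s : Kˣ, (s ^ 3 ^ m) ^ (3 : ℤ) * s ^ (-1 : ℤ) = a ∨
      (s ^ 3 ^ m) ^ (3 : ℤ) * s ^ (-1 : ℤ) = -a := by
  classical
  let φ : Kˣ →* Kˣ := MonoidHom.mk' (fun s => (s ^ 3 ^ m) ^ (3 : ℤ) * s ^ (-1 : ℤ)) fun s t => by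
    simp only [mul_pow, mul_zpow]
    exact mul_mul_mul_comm _ _ _ _
  have hker : Nat.card φ.ker ≤ 2 := by
    refine le_trans (Nat.card_le_card_of_injective
      (fun s : φ.ker => (⟨s.1, ?_⟩ : ({1, -1} : Finset Kˣ))) fun s t h =>
        Subtype.ext (congrArg (fun z : ({1, -1} : Finset Kˣ) => (z : Kˣ)) h)) ?_
    · rcases C.units_sq_cases (scale_two_fix C (MonoidHom.mem_ker.1 s.2)) with e | e <;> simp [e]
    · rw [Nat.card_eq_finsetCard]; exact Finset.card_le_two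
  have hsq : -1 ∉ φ.range := by
    rintro ⟨s, hs⟩
    have h4 : Fintype.card K % 4 = 3 := by rw [C.hK]; have := C.qq_mod (m := m); unfold qq at this; omega
    refine FiniteField.isSquare_neg_one_iff.mp ?_ h4
    obtain ⟨j, hj⟩ := Ctx.e_odd (m := m)
    refine ⟨((s ^ (3 * j + 1) : Kˣ) : K), ?_⟩
    have e : φ s = s ^ (3 * j + 1) * s ^ (3 * j + 1) := by
      show (s ^ 3 ^ m) ^ (3 : ℤ) * s ^ (-1 : ℤ) = _
      rw [_root_.zpow_neg_one, show (3 : ℤ) = ((3 : ℕ) : ℤ) from rfl, zpow_natCast, ← pow_mul,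
        mul_inv_eq_iff_eq_mul, ← pow_add, ← pow_succ s, hj]
      congr 1
      ring
    rw [← Units.val_mul, ← e, hs]
    simp
  have hidx : φ.range.index = 2 := by
    have h1 := φ.range.card_mul_index
    have h2 := φ.ker.card_mul_index
    rw [Subgroup.index_ker] at h2
    have h3 : φ.range.index = Nat.card φ.ker :=
      Nat.eq_of_mul_eq_mul_left (show 0 < Nat.card φ.range from Nat.card_pos)
        (h1.trans (h2.symm.trans (mul_comm _ _)))
    have h4 : φ.range.index ≠ 1 := fun e => hsq (Subgroup.index_eq_one.1 e ▸ Subgroup.mem_top _)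
    have : φ.range.index ≠ 0 := Subgroup.index_ne_zero_of_finite
    omega
  by_cases ha : a ∈ φ.range
  · obtain ⟨s, hs⟩ := ha
    exact ⟨s, Or.inl hs⟩
  · have : -1 * a ∈ φ.range :=
      (Subgroup.mul_mem_iff_of_index_two hidx).2 (iff_of_false hsq ha)
    rw [neg_one_mul] at this
    obtain ⟨s, hs⟩ := this
    exact ⟨s, Or.inr hs⟩

/-- The tail elements outside the last level are conjugate up to inversion. -/
theorem tail_conj (hm : 1 ≤ m) {u₀ v₀ u v : K} (hu₀ : u₀ ≠ 0) (hu : u ≠ 0) :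
    IsConj (C.uG 0 u₀ v₀) (C.uG 0 u v) ∨ IsConj (C.uG 0 u₀ v₀)⁻¹ (C.uG 0 u v) := by
  have key : ∀ (u₁ v₁ : K) (s : Kˣ), u₁ ≠ 0 →
      (((s ^ 3 ^ m) ^ (3 : ℤ) * s ^ (-1 : ℤ) : Kˣ) : K) * u₁ = u →
      IsConj (C.uG 0 u₁ v₁) (C.uG 0 u v) := by
    intro u₁ v₁ s _ hs
    obtain ⟨s₁, s₂, -, e2, e⟩ := C.tG_conj_uG s 0 u₁ v₁
    rw [← e2] at hs
    refine isConj_iff.2 ⟨C.uG ((v - (s : K) * v₁) / u) 0 0 * C.tG s, ?_⟩
    rw [show C.uG ((v - (s : K) * v₁) / u) 0 0 * C.tG s * C.uG 0 u₁ v₁ *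
        (C.uG ((v - (s : K) * v₁) / u) 0 0 * C.tG s)⁻¹ =
      C.uG ((v - (s : K) * v₁) / u) 0 0 * (C.tG s * C.uG 0 u₁ v₁ * (C.tG s)⁻¹) *
        (C.uG ((v - (s : K) * v₁) / u) 0 0)⁻¹ by group, e, mul_zero, hs, mul_inv_eq_iff_eq_mul,
      C.uG_mul_tail, C.tail_mul_uG]
    congr 1
    · ring
    · field_simp
      ring
  obtain ⟨s, hs | hs⟩ := exists_scale C hm (Units.mk0 (u / u₀) (div_ne_zero hu hu₀))
  · exact Or.inl (key _ _ s hu₀ (by rw [hs, Units.val_mk0, div_mul_cancel₀ u hu₀]))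
  · refine Or.inr ?_
    rw [show (C.uG 0 u₀ v₀)⁻¹ = C.uG 0 (-u₀) (-v₀) from inv_eq_of_mul_eq_one_right (by
      rw [C.uG_tail_mul, add_neg_cancel, add_neg_cancel, C.uG_zero])]
    refine key _ _ s (neg_ne_zero.2 hu₀) ?_
    rw [hs, Units.val_neg, Units.val_mk0, neg_mul_neg, div_mul_cancel₀ u hu₀]

theorem sq_tail_ne (hm : 1 ≤ m) (D : Tori C) {x : RG K m} (h2 : 2 < orderOf x)
    (h3 : ¬ 3 ∣ orderOf x) {u v : K} (hu : u ≠ 0) : sq x (C.uG 0 u v) ≠ 0 := by
  classical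
  by_contra h0
  have hall : ∀ u' v' : K, u' ≠ 0 → sq x (C.uG 0 u' v') = 0 := fun u' v' hu' => by
    rcases tail_conj C hm (v₀ := v) (v := v') hu hu' with h | h
    · rw [← sq_congr (IsConj.refl x) h, h0]
    · rw [← sq_congr (IsConj.refl x) h, sq_inv, h0, map_zero]
  have hsum := card_le_re_sum x C.eE
  rw [← Equiv.sum_comp (Multiplicative.ofAdd (α := K × K))] at hsum
  simp only [Fintype.card_multiplicative, Fintype.card_prod, C.hK, Fintype.sum_prod_type,
    C.eE_apply] at hsum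
  rw [Finset.sum_eq_single (0 : K) (fun u' _ hu' => Finset.sum_eq_zero fun v' _ => hall u' v' hu')
    (fun h => absurd (Finset.mem_univ _) h), ← Finset.add_sum_erase _ _ (Finset.mem_univ (0 : K)),
    C.uG_zero, sq_one, Complex.add_re, Complex.natCast_re, Complex.re_sum] at hsum
  have hx : (Nat.card (Subgroup.centralizer ({x} : Set (RG K m))) : ℝ) ≤ qq m + rr m + 1 := by
    exact_mod_cast card_centralizer_x C hm D h2 h3
  have hr2 : (rr m : ℝ) ^ 2 = 3 * qq m := by exact_mod_cast (arith_r C hm).1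
  have hr3 : 3 * (rr m : ℝ) ≤ qq m := by exact_mod_cast three_rr_le C hm
  have hq : (27 : ℝ) ≤ qq m := by exact_mod_cast qq_ge hm
  have hr0 : (0 : ℝ) ≤ rr m := Nat.cast_nonneg _
  have hN := NN_real C hm
  have hNpos : (0 : ℝ) < NN m := by exact_mod_cast Nat.succ_pos _
  set b : ℝ := 1 + (qq m + rr m : ℝ) * (rr m * qq m) / NN m with hb
  have hterm : ∀ w ∈ (Finset.univ : Finset K).erase 0, (sq x (C.uG 0 0 w)).re ≤ b := fun w hw => by
    have h := norm_sq_sub_one_le x (g := C.uG 0 0 w) (B := (rr m : ℝ) * qq m) hNpos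
      (by positivity) ?_ (deg_ge C hm)
    · have h' := (Complex.re_le_norm _).trans h
      rw [Complex.sub_re, Complex.one_re] at h'
      have : ((Nat.card (Subgroup.centralizer ({x} : Set (RG K m))) : ℝ) - 1) * (rr m * qq m) /
          NN m ≤ (qq m + rr m : ℝ) * (rr m * qq m) / NN m := by
        gcongr
        linarith
      rw [hb]
      linarith
    · have hc : (Nat.card (Subgroup.centralizer ({C.uG 0 0 w} : Set (RG K m))) : ℝ) ≤
          (qq m : ℝ) ^ 3 := by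
        exact_mod_cast card_centralizer_long C (Finset.mem_erase.1 hw).1
      nlinarith [pow_nonneg (show (0 : ℝ) ≤ qq m by linarith) 3]
  have h1 := Finset.sum_le_card_nsmul _ _ b hterm
  rw [Finset.card_erase_of_mem (Finset.mem_univ _), Finset.card_univ, C.hK, nsmul_eq_mul] at h1
  have hb2 : ((3 ^ (2 * m + 1) - 1 : ℕ) : ℝ) * b ≤
      (qq m : ℝ) - 1 + ((qq m : ℝ) + rr m) * rr m := by
    rw [Nat.cast_sub (Nat.one_le_pow _ _ (by norm_num)), Nat.cast_one, hb]
    show ((qq m : ℝ) - 1) * _ ≤ _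
    rw [mul_add, mul_one]
    refine add_le_add le_rfl ?_
    rw [mul_div_assoc', div_le_iff₀ hNpos, hN]
    nlinarith [mul_nonneg (add_nonneg (show (0 : ℝ) ≤ qq m by linarith) hr0) hr0]
  rw [Nat.cast_mul] at hsum
  change (qq m : ℝ) * qq m ≤ _ at hsum
  have hqr := mul_le_mul_of_nonneg_right hr3 (show (0 : ℝ) ≤ qq m by linarith)
  nlinarith

theorem cover_three (hm : 1 ≤ m) (D : Tori C) {x : RG K m} (h2 : 2 < orderOf x)
    (h3 : ¬ 3 ∣ orderOf x) {g : RG K m} (hg : orderOf g = 3) : Cover x g := by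
  have hx := hasInverter C hm D.h₁ D.h₂ D.hor h2 h3
  obtain ⟨y, hy⟩ := C.exists_conj_BG (g := g) (by rw [hg])
  refine Cover.of_conj y ?_
  have ho : orderOf (y * g * y⁻¹) = 3 := by rw [C.orderOf_conj, hg]
  generalize y * g * y⁻¹ = b at hy ho
  obtain ⟨p, hp⟩ := C.bParam.surjective ⟨b, hy⟩
  have e : C.bOrd p = 3 := by rw [← C.orderOf_bParam, hp]; exact ho
  obtain ⟨hs, ht, huv⟩ := (C.bOrd_iff p).1.1 e
  obtain ⟨⟨t, u, v⟩, s⟩ := p
  simp only at hs ht huv
  subst hs ht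
  have hb : b = C.uG 0 u v := by
    have := congrArg Subtype.val hp
    simp only at this
    rw [← this]
    show C.uG 0 u v * C.tG 1 = _
    rw [map_one, mul_one]
  subst hb
  rcases eq_or_ne u 0 with rfl | hu
  · exact cover_long C hm h2 hx fun hv => huv ⟨rfl, hv⟩
  · exact cover_of_sq_ne hx.real (sq_tail_ne C hm D h2 h3 hu)

end CfsgLib.ReeSquare
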